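import Mathlib.RingTheory.FinitePresentation
import Mathlib.RingTheory.TensorProduct.Basic
import Mathlib.LinearAlgebra.TensorProduct.RightExactness
import Mathlib.LinearAlgebra.DirectSum.Finsupp
import Mathlib.RingTheory.Flat.Basic

/-!
# Directed colimits of algebras, elementwise

`IsDirColim T g`: the `R`-algebra `A` is the directed colimit of the `R`-algebras `G i` along `g i : G i → A`, with
transition maps in the class `T` (no functoriality of a chosen system is needed: `g` is jointly surjective, kernels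
die along maps of `T`, and `T` is directed).

* `IsDirColim.of_system`: the form used in the milestones;
* `IsDirColim.exists_kill`, `exists_lift_finset`, `exists_forall_mem`: finitely many elements or properties at once;
* `IsDirColim.rTensor_surj`, `rTensor_ker`, `lTensor_surj`, `lTensor_ker`: tensor products with a module;
* `IsDirColim.baseChange`: `D ⊗ A` is the directed colimit of the `D ⊗ G i`;
* `IsDirColim.exists_algHom`, `exists_algHom_eq`: maps from finitely presented (finite type) algebras to `A`.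
-/

set_option autoImplicit false

namespace K73.DirColim

open TensorProduct

universe u v w w' x

variable {ι : Type v} {R : Type u} [CommRing R] {G : ι → Type w} [∀ i, CommRing (G i)]
  [∀ i, Algebra R (G i)] {A : Type w'} [CommRing A] [Algebra R A]

theorem finsuppScalarLeft_lTensor {σ : Type*} [DecidableEq σ] {N N' : Type*} [AddCommGroup N] [Module R N] [AddCommGroup N']
    [Module R N'] (φ : N →ₗ[R] N') (y : (σ →₀ R) ⊗[R] N) :
    TensorProduct.finsuppScalarLeft R N' σ (φ.lTensor (σ →₀ R) y) =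
      (TensorProduct.finsuppScalarLeft R N σ y).mapRange φ (map_zero _) := by
  induction y using TensorProduct.induction_on with
  | zero => simp
  | add a b ha hb =>
    rw [map_add, map_add, ha, hb, map_add, Finsupp.mapRange_add (map_add φ)]
  | tmul p n =>
    ext s
    simp [TensorProduct.finsuppScalarLeft_apply_tmul_apply]

theorem rTensor_ker_exact {N P Q : Type*} [AddCommGroup N] [Module R N] [AddCommGroup P] [Module R P]
    [AddCommGroup Q] [Module R Q] (π : N →ₗ[R] P) (hπ : Function.Surjective π) (w : N ⊗[R] Q) :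
    π.rTensor Q w = 0 ↔ ∃ z, (LinearMap.ker π).subtype.rTensor Q z = w :=
  rTensor_exact (f := (LinearMap.ker π).subtype) (g := π) Q (LinearMap.exact_subtype_ker_map π) hπ w

theorem rTensor_lTensor_comm {N N' P P' : Type*} [AddCommGroup N] [Module R N] [AddCommGroup N']
    [Module R N'] [AddCommGroup P] [Module R P] [AddCommGroup P'] [Module R P']
    (φ : N →ₗ[R] N') (ψ : P →ₗ[R] P') (y : P ⊗[R] N) :
    ψ.rTensor N' (φ.lTensor P y) = φ.lTensor P' (ψ.rTensor N y) := by
  rw [← LinearMap.comp_apply, ← LinearMap.comp_apply, LinearMap.rTensor_comp_lTensor,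
    LinearMap.lTensor_comp_rTensor]

/-- `A` is the directed colimit of the algebras `G i` along `g i`, with transition maps in `T`. -/
structure IsDirColim (T : ∀ i j, (G i →ₐ[R] G j) → Prop) (g : ∀ i, G i →ₐ[R] A) : Prop where
  nonempty : Nonempty ι
  refl : ∀ i, T i i (AlgHom.id R (G i))
  trans : ∀ {i j k : ι} {h : G i →ₐ[R] G j} {h' : G j →ₐ[R] G k}, T i j h → T j k h' →
    T i k (h'.comp h)
  comp : ∀ {i j : ι} {h : G i →ₐ[R] G j}, T i j h → (g j).comp h = g i
  dir : ∀ i j : ι, ∃ (k : ι) (h : G i →ₐ[R] G k) (h' : G j →ₐ[R] G k), T i k h ∧ T j k h'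
  surj : ∀ a : A, ∃ (i : ι) (x : G i), g i x = a
  ker : ∀ (i : ι) (x : G i), g i x = 0 → ∃ (j : ι) (h : G i →ₐ[R] G j), T i j h ∧ h x = 0

namespace IsDirColim

/-- A directed system (not assumed functorial) compatible with `g`, jointly surjective with kernels dying. -/
theorem of_system [Preorder ι] [IsDirected ι (· ≤ ·)] [Nonempty ι]
    (f : ∀ i j, i ≤ j → (G i →ₐ[R] G j)) (g : ∀ i, G i →ₐ[R] A)
    (hg : ∀ i j (h : i ≤ j), (g j).comp (f i j h) = g i)
    (hsurj : ∀ a : A, ∃ i, ∃ x : G i, g i x = a)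
    (hker : ∀ i (x : G i), g i x = 0 → ∃ j, ∃ h : i ≤ j, f i j h x = 0) :
    IsDirColim (fun i j h => (g j).comp h = g i) g where
  nonempty := inferInstance
  refl i := AlgHom.comp_id _
  trans {i j k h h'} h1 h2 := by
    rw [← AlgHom.comp_assoc, h2, h1]
  comp h1 := h1
  dir i j := by
    obtain ⟨k, hik, hjk⟩ := exists_ge_ge i j
    exact ⟨k, f i k hik, f j k hjk, hg _ _ _, hg _ _ _⟩
  surj := hsurj
  ker i x hx := by
    obtain ⟨j, hij, h⟩ := hker i x hx
    exact ⟨j, f i j hij, hg _ _ _, h⟩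

variable {T : ∀ i j, (G i →ₐ[R] G j) → Prop} {g : ∀ i, G i →ₐ[R] A} (H : IsDirColim T g)
include H

theorem comp_apply {i j : ι} {h : G i →ₐ[R] G j} (hT : T i j h) (x : G i) : g j (h x) = g i x :=
  DFunLike.congr_fun (H.comp hT) x

/-- Finitely many elements of a stage which die in the colimit die at a common later stage. -/
theorem exists_kill (i : ι) (s : Finset (G i)) (hs : ∀ x ∈ s, g i x = 0) :
    ∃ (j : ι) (h : G i →ₐ[R] G j), T i j h ∧ ∀ x ∈ s, h x = 0 := by
  classical
  induction s using Finset.induction_on with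
  | empty => exact ⟨i, _, H.refl i, by simp⟩
  | insert a s _ ih =>
    obtain ⟨j, h, hT, hh⟩ := ih fun x hx => hs x (Finset.mem_insert_of_mem hx)
    obtain ⟨k, h', hT', hh'⟩ := H.ker j (h a) (by
      rw [H.comp_apply hT]; exact hs a (Finset.mem_insert_self _ _))
    refine ⟨k, h'.comp h, H.trans hT hT', fun x hx => ?_⟩
    rcases Finset.mem_insert.1 hx with rfl | hx
    · exact hh'
    · rw [AlgHom.comp_apply, hh x hx, map_zero]

/-- Two elements of a stage with the same image in the colimit become equal at a later stage. -/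
theorem exists_eq (i : ι) (x y : G i) (hxy : g i x = g i y) :
    ∃ (j : ι) (h : G i →ₐ[R] G j), T i j h ∧ h x = h y := by
  obtain ⟨j, h, hT, hh⟩ := H.ker i (x - y) (by rw [map_sub, hxy, sub_self])
  exact ⟨j, h, hT, by rwa [map_sub, sub_eq_zero] at hh⟩

/-- Finitely many properties, each of which holds at some stage and persists, hold at a common stage. -/
theorem exists_forall_mem {σ : Type*} (s : Finset σ) (Q : σ → ι → Prop)
    (hQ : ∀ a ∈ s, ∃ i, Q a i) (hmono : ∀ a ∈ s, ∀ (i j : ι) (h : G i →ₐ[R] G j), T i j h → Q a i → Q a j) :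
    ∃ i, ∀ a ∈ s, Q a i := by
  classical
  induction s using Finset.induction_on with
  | empty =>
    obtain ⟨i⟩ := H.nonempty
    exact ⟨i, by simp⟩
  | insert a s _ ih =>
    obtain ⟨i, hi⟩ := ih (fun x hx => hQ x (Finset.mem_insert_of_mem hx))
      (fun x hx => hmono x (Finset.mem_insert_of_mem hx))
    obtain ⟨j, hj⟩ := hQ a (Finset.mem_insert_self _ _)
    obtain ⟨k, h, h', hT, hT'⟩ := H.dir i j
    refine ⟨k, fun x hx => ?_⟩
    rcases Finset.mem_insert.1 hx with rfl | hx
    · exact hmono _ (Finset.mem_insert_self _ _) j k h' hT' hj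
    · exact hmono _ (Finset.mem_insert_of_mem hx) i k h hT (hi x hx)

/-- Finitely many elements of the colimit come from a common stage. -/
theorem exists_lift_finset (s : Finset A) : ∃ i, ∀ a ∈ s, ∃ x : G i, g i x = a :=
  H.exists_forall_mem s (fun a i => ∃ x : G i, g i x = a) (fun a _ => H.surj a)
    fun _ _ i j h hT ⟨x, hx⟩ => ⟨h x, by rw [H.comp_apply hT, hx]⟩

/-- Finitely many elements of the colimit come from a stage beyond a given one. -/
theorem exists_lift_finset_ge (i : ι) (s : Finset A) :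
    ∃ (j : ι) (h : G i →ₐ[R] G j), T i j h ∧ ∀ a ∈ s, ∃ x : G j, g j x = a := by
  obtain ⟨j, hj⟩ := H.exists_lift_finset s
  obtain ⟨k, h, h', hT, hT'⟩ := H.dir i j
  refine ⟨k, h, hT, fun a ha => ?_⟩
  obtain ⟨x, hx⟩ := hj a ha
  exact ⟨h' x, by rw [H.comp_apply hT', hx]⟩

section Tensor

variable (M : Type x) [AddCommGroup M] [Module R M]

theorem lTensor_comp_apply {i j : ι} {h : G i →ₐ[R] G j} (hT : T i j h) (y : M ⊗[R] G i) :
    (g j).toLinearMap.lTensor M (h.toLinearMap.lTensor M y) = (g i).toLinearMap.lTensor M y := by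
  rw [← LinearMap.comp_apply, ← LinearMap.lTensor_comp, ← AlgHom.comp_toLinearMap, H.comp hT]

/-- Elements of `M ⊗ A` come from a stage. -/
theorem lTensor_surj (z : M ⊗[R] A) :
    ∃ (i : ι) (y : M ⊗[R] G i), (g i).toLinearMap.lTensor M y = z := by
  induction z using TensorProduct.induction_on with
  | zero =>
    obtain ⟨i⟩ := H.nonempty
    exact ⟨i, 0, map_zero _⟩
  | tmul m a =>
    obtain ⟨i, x, rfl⟩ := H.surj a
    exact ⟨i, m ⊗ₜ x, rfl⟩
  | add z w hz hw =>
    obtain ⟨i, y, rfl⟩ := hz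
    obtain ⟨j, y', rfl⟩ := hw
    obtain ⟨k, h, h', hT, hT'⟩ := H.dir i j
    refine ⟨k, h.toLinearMap.lTensor M y + h'.toLinearMap.lTensor M y', ?_⟩
    rw [map_add, H.lTensor_comp_apply M hT, H.lTensor_comp_apply M hT']

/-- Killing in a free module. -/
theorem finsupp_ker {σ : Type*} (i : ι) (x : σ →₀ G i)
    (hx : x.mapRange (g i) (map_zero _) = 0) :
    ∃ (j : ι) (h : G i →ₐ[R] G j), T i j h ∧ x.mapRange h (map_zero _) = 0 := by
  classical
  obtain ⟨j, h, hT, hh⟩ := H.exists_kill i (x.support.image x) (by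
    intro y hy
    obtain ⟨s, -, rfl⟩ := Finset.mem_image.1 hy
    simpa using DFunLike.congr_fun hx s)
  refine ⟨j, h, hT, ?_⟩
  ext s
  by_cases hs : s ∈ x.support
  · simpa using hh (x s) (Finset.mem_image_of_mem _ hs)
  · simp [Finsupp.notMem_support_iff.1 hs]

theorem free_ker {σ : Type*} (i : ι) (x : (σ →₀ R) ⊗[R] G i)
    (hx : (g i).toLinearMap.lTensor (σ →₀ R) x = 0) :
    ∃ (j : ι) (h : G i →ₐ[R] G j), T i j h ∧ h.toLinearMap.lTensor (σ →₀ R) x = 0 := by
  classical
  obtain ⟨j, h, hT, hh⟩ := H.finsupp_ker (σ := σ) i (TensorProduct.finsuppScalarLeft R (G i) σ x) (by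
    have := finsuppScalarLeft_lTensor (σ := σ) (g i).toLinearMap x
    rw [hx, map_zero] at this
    exact this.symm)
  refine ⟨j, h, hT, ?_⟩
  apply (TensorProduct.finsuppScalarLeft R (G j) σ).injective
  rw [finsuppScalarLeft_lTensor, map_zero]
  exact hh

/-- An element of `M ⊗ G i` which dies in `M ⊗ A` dies at a later stage. -/
theorem lTensor_ker (i : ι) (x : M ⊗[R] G i) (hx : (g i).toLinearMap.lTensor M x = 0) :
    ∃ (j : ι) (h : G i →ₐ[R] G j), T i j h ∧ h.toLinearMap.lTensor M x = 0 := by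
  let π : (M →₀ R) →ₗ[R] M := Finsupp.linearCombination R id
  have hπ : Function.Surjective π := Finsupp.linearCombination_id_surjective R M
  obtain ⟨x', rfl⟩ := LinearMap.rTensor_surjective (G i) hπ x
  rw [← rTensor_lTensor_comm] at hx
  obtain ⟨z, hz⟩ := (rTensor_ker_exact π hπ ((g i).toLinearMap.lTensor _ x')).1 hx
  obtain ⟨j, y, rfl⟩ := H.lTensor_surj (LinearMap.ker π) z
  obtain ⟨k, h, h', hT, hT'⟩ := H.dir i j
  obtain ⟨l, h'', hT'', hh⟩ := H.free_ker k
    (h.toLinearMap.lTensor _ x' - (LinearMap.ker π).subtype.rTensor _ (h'.toLinearMap.lTensor _ y)) (by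
      rw [map_sub, H.lTensor_comp_apply _ hT,
        ← rTensor_lTensor_comm (P := LinearMap.ker π) (g k).toLinearMap (LinearMap.ker π).subtype,
        H.lTensor_comp_apply (LinearMap.ker π) hT' y, hz, sub_self])
  refine ⟨l, h''.comp h, H.trans hT hT'', ?_⟩
  rw [map_sub, sub_eq_zero] at hh
  rw [AlgHom.comp_toLinearMap, LinearMap.lTensor_comp, LinearMap.comp_apply, ← rTensor_lTensor_comm,
    ← rTensor_lTensor_comm, hh, rTensor_lTensor_comm]
  have h0 : ∀ w, π.rTensor (G k) ((LinearMap.ker π).subtype.rTensor (G k) w) = 0 := fun w =>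
    (rTensor_ker_exact π hπ _).2 ⟨w, rfl⟩
  rw [h0, map_zero]

theorem rTensor_comp_apply {i j : ι} {h : G i →ₐ[R] G j} (hT : T i j h) (y : G i ⊗[R] M) :
    (g j).toLinearMap.rTensor M (h.toLinearMap.rTensor M y) = (g i).toLinearMap.rTensor M y := by
  rw [← LinearMap.comp_apply, ← LinearMap.rTensor_comp, ← AlgHom.comp_toLinearMap, H.comp hT]

/-- Elements of `A ⊗ M` come from a stage. -/
theorem rTensor_surj (z : A ⊗[R] M) :
    ∃ (i : ι) (y : G i ⊗[R] M), (g i).toLinearMap.rTensor M y = z := by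
  obtain ⟨i, y, hy⟩ := H.lTensor_surj M (TensorProduct.comm R A M z)
  refine ⟨i, TensorProduct.comm R M (G i) y, ?_⟩
  apply (TensorProduct.comm R A M).injective
  rw [← hy, ← LinearMap.lTensor_comm]
  congr 1
  exact (TensorProduct.comm R M (G i)).symm_apply_apply y

/-- An element of `G i ⊗ M` which dies in `A ⊗ M` dies at a later stage. -/
theorem rTensor_ker (i : ι) (x : G i ⊗[R] M) (hx : (g i).toLinearMap.rTensor M x = 0) :
    ∃ (j : ι) (h : G i →ₐ[R] G j), T i j h ∧ h.toLinearMap.rTensor M x = 0 := by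
  obtain ⟨j, h, hT, hh⟩ := H.lTensor_ker M i (TensorProduct.comm R (G i) M x) (by
    rw [LinearMap.lTensor_comm, hx, map_zero])
  refine ⟨j, h, hT, ?_⟩
  apply (TensorProduct.comm R (G j) M).injective
  rw [← LinearMap.lTensor_comm, hh, map_zero]

end Tensor

/-- Base change: `D ⊗ A` is the directed colimit of the `S`-algebras `D ⊗ G i`, for an `R`-algebra `D` over `S`. -/
theorem baseChange (S : Type*) [CommRing S] [Algebra R S] (D : Type*) [CommRing D] [Algebra R D] [Algebra S D]
    [IsScalarTower R S D] :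
    IsDirColim (R := S) (G := fun i => D ⊗[R] G i) (A := D ⊗[R] A)
      (fun i j h' => ∃ h : G i →ₐ[R] G j, T i j h ∧ h' = Algebra.TensorProduct.map (AlgHom.id S D) h)
      (fun i => Algebra.TensorProduct.map (AlgHom.id S D) (g i)) where
  nonempty := H.nonempty
  refl i := ⟨_, H.refl i, (Algebra.TensorProduct.map_id).symm⟩
  trans := by
    rintro i j k _ _ ⟨h, hT, rfl⟩ ⟨h', hT', rfl⟩
    refine ⟨h'.comp h, H.trans hT hT', ?_⟩
    rw [← Algebra.TensorProduct.map_comp]
    rfl
  comp := by
    rintro i j _ ⟨h, hT, rfl⟩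
    rw [← Algebra.TensorProduct.map_comp, H.comp hT]
    rfl
  dir i j := by
    obtain ⟨k, h, h', hT, hT'⟩ := H.dir i j
    exact ⟨k, _, _, ⟨h, hT, rfl⟩, ⟨h', hT', rfl⟩⟩
  surj z := H.lTensor_surj D z
  ker i x hx := by
    obtain ⟨j, h, hT, hh⟩ := H.lTensor_ker D i x hx
    exact ⟨j, _, ⟨h, hT, rfl⟩, hh⟩

/-- Base change on the other side: `A ⊗ D` is the directed colimit of the `R`-algebras `G i ⊗ D`. -/
theorem baseChange' (D : Type*) [CommRing D] [Algebra R D] :
    IsDirColim (R := R) (G := fun i => G i ⊗[R] D) (A := A ⊗[R] D)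
      (fun i j h' => ∃ h : G i →ₐ[R] G j, T i j h ∧ h' = Algebra.TensorProduct.map h (AlgHom.id R D))
      (fun i => Algebra.TensorProduct.map (g i) (AlgHom.id R D)) where
  nonempty := H.nonempty
  refl i := ⟨_, H.refl i, (Algebra.TensorProduct.map_id).symm⟩
  trans := by
    rintro i j k _ _ ⟨h, hT, rfl⟩ ⟨h', hT', rfl⟩
    refine ⟨h'.comp h, H.trans hT hT', ?_⟩
    rw [← Algebra.TensorProduct.map_comp]
    rfl
  comp := by
    rintro i j _ ⟨h, hT, rfl⟩
    rw [← Algebra.TensorProduct.map_comp, H.comp hT]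
    rfl
  dir i j := by
    obtain ⟨k, h, h', hT, hT'⟩ := H.dir i j
    exact ⟨k, _, _, ⟨h, hT, rfl⟩, ⟨h', hT', rfl⟩⟩
  surj z := H.rTensor_surj D z
  ker i x hx := by
    obtain ⟨j, h, hT, hh⟩ := H.rTensor_ker D i x hx
    exact ⟨j, _, ⟨h, hT, rfl⟩, hh⟩

/-- Two maps from a finite type algebra to a stage which agree in the colimit agree at a later stage. -/
theorem exists_algHom_eq {C : Type*} [CommRing C] [Algebra R C] [Algebra.FiniteType R C] (i : ι)
    (s s' : C →ₐ[R] G i) (hs : (g i).comp s = (g i).comp s') :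
    ∃ (j : ι) (h : G i →ₐ[R] G j), T i j h ∧ h.comp s = h.comp s' := by
  classical
  obtain ⟨t, ht⟩ := (inferInstance : Algebra.FiniteType R C).out
  obtain ⟨j, h, hT, hh⟩ := H.exists_kill i (t.image fun x => s x - s' x) (by
    intro y hy
    obtain ⟨x, -, rfl⟩ := Finset.mem_image.1 hy
    rw [map_sub, sub_eq_zero]
    exact DFunLike.congr_fun hs x)
  refine ⟨j, h, hT, AlgHom.ext_of_adjoin_eq_top ht fun x hx => ?_⟩
  have := hh (s x - s' x) (Finset.mem_image_of_mem (fun x => s x - s' x) hx)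
  rwa [map_sub, sub_eq_zero] at this

/-- A map from a finitely presented algebra to the colimit comes from a stage. -/
theorem exists_algHom {C : Type*} [CommRing C] [Algebra R C] [Algebra.FinitePresentation R C]
    (s : C →ₐ[R] A) : ∃ (i : ι) (t : C →ₐ[R] G i), (g i).comp t = s := by
  classical
  obtain ⟨n, f, hf, K, hK⟩ := Algebra.FinitePresentation.out (R := R) (A := C)
  obtain ⟨i, hi⟩ := H.exists_lift_finset (Finset.univ.image fun k : Fin n => s (f (MvPolynomial.X k)))
  have hi' : ∀ k : Fin n, ∃ x : G i, g i x = s (f (MvPolynomial.X k)) := fun k =>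
    hi _ (Finset.mem_image_of_mem _ (Finset.mem_univ k))
  choose z hz using hi'
  let φ : MvPolynomial (Fin n) R →ₐ[R] G i := MvPolynomial.aeval z
  have hφ : (g i).comp φ = s.comp f := MvPolynomial.algHom_ext fun k => by
    simp [φ, hz]
  obtain ⟨j, h, hT, hh⟩ := H.exists_kill i (K.image φ) (by
    intro y hy
    obtain ⟨p, hp, rfl⟩ := Finset.mem_image.1 hy
    have h1 : p ∈ RingHom.ker f := by
      have : p ∈ Ideal.span (K : Set (MvPolynomial (Fin n) R)) := Ideal.subset_span hp
      rw [hK] at this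
      exact this
    have h2 := DFunLike.congr_fun hφ p
    rw [AlgHom.comp_apply, AlgHom.comp_apply, RingHom.mem_ker.1 h1, map_zero] at h2
    exact h2)
  have hker : RingHom.ker f ≤ RingHom.ker (h.comp φ) := by
    have : RingHom.ker f = Ideal.span (K : Set (MvPolynomial (Fin n) R)) := hK.symm
    rw [this, Ideal.span_le]
    intro p hp
    exact hh (φ p) (Finset.mem_image_of_mem _ hp)
  let ψ : (MvPolynomial (Fin n) R ⧸ RingHom.ker f) →ₐ[R] G j :=
    Ideal.Quotient.liftₐ (RingHom.ker f) (h.comp φ) fun a ha => hker ha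
  refine ⟨j, ψ.comp (Ideal.quotientKerAlgEquivOfSurjective hf).symm.toAlgHom, ?_⟩
  refine AlgHom.ext fun c => ?_
  obtain ⟨p, rfl⟩ := hf c
  have h3 : (Ideal.quotientKerAlgEquivOfSurjective hf).symm (f p) = Ideal.Quotient.mk _ p := by
    rw [AlgEquiv.symm_apply_eq]
    rfl
  change g j (ψ ((Ideal.quotientKerAlgEquivOfSurjective hf).symm (f p))) = s (f p)
  rw [h3]
  change g j (h (φ p)) = s (f p)
  rw [H.comp_apply hT]
  exact DFunLike.congr_fun hφ p

end IsDirColim

end K73.DirColim
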