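import Groth.Agent.CAlg.K73.DirColim
import Mathlib.RingTheory.Etale.Basic

/-!
# Maps out of a directed colimit of algebras

* `IsDirColim.exists_desc`: the universal property of the directed colimit;
* `IsDirColim.formallyUnramified`, `IsDirColim.formallyEtale`: a directed colimit of formally unramified (étale)
  algebras is formally unramified (étale).
-/

set_option autoImplicit false

namespace K73.DirColim

universe u v w w' x

variable {ι : Type v} {R : Type u} [CommRing R] {G : ι → Type w} [∀ i, CommRing (G i)]
  [∀ i, Algebra R (G i)] {A : Type w'} [CommRing A] [Algebra R A]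
  {T : ∀ i j, (G i →ₐ[R] G j) → Prop} {g : ∀ i, G i →ₐ[R] A}

namespace IsDirColim

theorem eq_of_cocone (H : IsDirColim T g) {B : Type*} [CommRing B] [Algebra R B] (l : ∀ i, G i →ₐ[R] B)
    (hl : ∀ (i j : ι) (h : G i →ₐ[R] G j), T i j h → (l j).comp h = l i) {i j : ι} {x : G i} {y : G j}
    (hxy : g i x = g j y) : l i x = l j y := by
  obtain ⟨k, h, h', hT, hT'⟩ := H.dir i j
  obtain ⟨m, h'', hT'', he⟩ := H.exists_eq k (h x) (h' y) (by
    rw [H.comp_apply hT, H.comp_apply hT', hxy])
  rw [← hl i k h hT, ← hl j k h' hT', AlgHom.comp_apply, AlgHom.comp_apply, ← hl k m h'' hT'',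
    AlgHom.comp_apply, AlgHom.comp_apply, he]

/-- The universal property of the directed colimit. -/
theorem exists_desc (H : IsDirColim T g) {B : Type*} [CommRing B] [Algebra R B] (l : ∀ i, G i →ₐ[R] B)
    (hl : ∀ (i j : ι) (h : G i →ₐ[R] G j), T i j h → (l j).comp h = l i) :
    ∃ φ : A →ₐ[R] B, ∀ i, φ.comp (g i) = l i := by
  choose s x hx using H.surj
  have key : ∀ (i : ι) (y : G i), l (s (g i y)) (x (g i y)) = l i y := fun i y =>
    H.eq_of_cocone l hl (hx (g i y))
  have two : ∀ a b : A, ∃ (k : ι) (y z : G k), g k y = a ∧ g k z = b := by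
    intro a b
    obtain ⟨k, h, h', hT, hT'⟩ := H.dir (s a) (s b)
    exact ⟨k, h (x a), h' (x b), by rw [H.comp_apply hT, hx], by rw [H.comp_apply hT', hx]⟩
  let φ : A →ₐ[R] B :=
    { toFun := fun a => l (s a) (x a)
      map_one' := by
        obtain ⟨i⟩ := H.nonempty
        have := key i 1
        rwa [map_one, map_one] at this
      map_zero' := by
        obtain ⟨i⟩ := H.nonempty
        have := key i 0
        rwa [map_zero, map_zero] at this
      map_mul' := by
        intro a b
        obtain ⟨k, y, z, rfl, rfl⟩ := two a b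
        have := key k (y * z)
        rw [map_mul, map_mul] at this
        rw [this, key, key]
      map_add' := by
        intro a b
        obtain ⟨k, y, z, rfl, rfl⟩ := two a b
        have := key k (y + z)
        rw [map_add, map_add] at this
        rw [this, key, key]
      commutes' := by
        intro r
        obtain ⟨i⟩ := H.nonempty
        have := key i (algebraMap R (G i) r)
        rwa [AlgHom.commutes, AlgHom.commutes] at this }
  exact ⟨φ, fun i => AlgHom.ext fun y => key i y⟩

theorem hom_ext (H : IsDirColim T g) {B : Type*} [CommRing B] [Algebra R B] {φ ψ : A →ₐ[R] B}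
    (h : ∀ i, φ.comp (g i) = ψ.comp (g i)) : φ = ψ := by
  refine AlgHom.ext fun a => ?_
  obtain ⟨i, x, rfl⟩ := H.surj a
  exact DFunLike.congr_fun (h i) x

/-- A directed colimit of formally unramified algebras is formally unramified. -/
theorem formallyUnramified (H : IsDirColim T g) (h : ∀ i, Algebra.FormallyUnramified R (G i)) :
    Algebra.FormallyUnramified R A := by
  have hD : ∀ s : A, KaehlerDifferential.D R A s = 0 := by
    intro s
    obtain ⟨i, x, rfl⟩ := H.surj s
    let _ : Algebra (G i) A := (g i).toRingHom.toAlgebra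
    have : IsScalarTower R (G i) A := IsScalarTower.of_algebraMap_eq fun r => ((g i).commutes r).symm
    have h1 : KaehlerDifferential.D R (G i) x = 0 := Subsingleton.elim _ _
    have h2 := KaehlerDifferential.map_D R R (G i) A x
    rw [h1, map_zero] at h2
    exact h2.symm
  have hspan : (⊤ : Submodule A (Ω[A⁄R])) = ⊥ := by
    rw [← KaehlerDifferential.span_range_derivation, Submodule.span_eq_bot]
    rintro _ ⟨s, rfl⟩
    exact hD s
  refine ⟨⟨fun a b => ?_⟩⟩
  have ha : a ∈ (⊤ : Submodule A (Ω[A⁄R])) := trivial
  have hb : b ∈ (⊤ : Submodule A (Ω[A⁄R])) := trivial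
  rw [hspan, Submodule.mem_bot] at ha hb
  rw [ha, hb]

/-- A directed colimit of formally étale algebras is formally étale. -/
theorem formallyEtale (H : IsDirColim T g) (h : ∀ i, Algebra.FormallyEtale R (G i)) :
    Algebra.FormallyEtale R A := by
  have hu : Algebra.FormallyUnramified R A := H.formallyUnramified fun i => inferInstance
  rw [Algebra.FormallyEtale.iff_comp_bijective]
  intro B _ _ I hI
  refine ⟨Algebra.FormallyUnramified.comp_injective I hI, fun φ => ?_⟩
  choose l hl using fun i => (Algebra.FormallyEtale.comp_bijective R (G i) I hI).2 (φ.comp (g i))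
  obtain ⟨ψ, hψ⟩ := H.exists_desc l (fun i j f hT => by
    apply Algebra.FormallyUnramified.comp_injective I hI
    change (Ideal.Quotient.mkₐ R I).comp ((l j).comp f) = (Ideal.Quotient.mkₐ R I).comp (l i)
    have h1 : (Ideal.Quotient.mkₐ R I).comp (l j) = φ.comp (g j) := hl j
    have h2 : (Ideal.Quotient.mkₐ R I).comp (l i) = φ.comp (g i) := hl i
    rw [← AlgHom.comp_assoc, h1, h2, AlgHom.comp_assoc, H.comp hT])
  refine ⟨ψ, H.hom_ext fun i => ?_⟩
  change ((Ideal.Quotient.mkₐ R I).comp ψ).comp (g i) = φ.comp (g i)
  rw [AlgHom.comp_assoc, hψ]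
  exact hl i

end IsDirColim

end K73.DirColim
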