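import Groth.Agent.CAlg.K73.DirColim
import Mathlib.Algebra.Polynomial.Lifts
import Mathlib.RingTheory.Kaehler.TensorProduct
import Mathlib.RingTheory.Etale.Basic
import Mathlib.RingTheory.Smooth.Basic
import Mathlib.RingTheory.Unramified.Basic
import Mathlib.RingTheory.IntegralClosure.IsIntegral.Basic
import Mathlib.RingTheory.RingHom.Finite

/-!
# Properties of algebras descend along directed colimits

`A` the directed colimit of the `R`-algebras `G i` (`IsDirColim T g`), `C` an `R`-algebra. If `A ⊗ C` is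
finite / surjective / unramified (`C` of finite type), bijective / smooth / étale (`C` of finite presentation)
over `A`, then so is `G i ⊗ C` over `G i` for some `i`: `exists_finite`, `exists_surjective`, `exists_unramified`,
`exists_bijective`, `exists_smooth`, `exists_etale`.
-/

set_option autoImplicit false

namespace K73.DirColim

open TensorProduct

universe u v w w' x

section Aux

variable {R : Type*} [CommRing R] {B C : Type*} [CommRing B] [Algebra R B] [CommRing C] [Algebra R C]

/-- A subalgebra of `B ⊗ C` containing the `1 ⊗ x` for generators `x` of `C` is everything. -/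
theorem eq_top_of_generators (S : Subalgebra B (B ⊗[R] C)) (t : Set C) (ht : Algebra.adjoin R t = ⊤)
    (h : ∀ x ∈ t, (1 : B) ⊗ₜ[R] x ∈ S) : S = ⊤ := by
  have h1 : ∀ c : C, (1 : B) ⊗ₜ[R] c ∈ S := by
    intro c
    have hc : c ∈ Algebra.adjoin R t := by rw [ht]; trivial
    have h2 : Algebra.adjoin R t ≤ (S.restrictScalars R).comap
        (Algebra.TensorProduct.includeRight : C →ₐ[R] B ⊗[R] C) := Algebra.adjoin_le fun x hx => h x hx
    exact h2 hc
  rw [eq_top_iff]
  rintro z -
  induction z using TensorProduct.induction_on with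
  | zero => exact S.zero_mem
  | add a b ha hb => exact S.add_mem ha hb
  | tmul b c =>
    have : b ⊗ₜ[R] c = b • ((1 : B) ⊗ₜ[R] c) := by rw [TensorProduct.smul_tmul', smul_eq_mul, mul_one]
    rw [this]
    exact S.smul_mem (h1 c) b

attribute [local instance] Algebra.TensorProduct.rightAlgebra in
theorem formallyUnramified_tensor_iff :
    Algebra.FormallyUnramified B (B ⊗[R] C) ↔ Subsingleton (B ⊗[R] Ω[C⁄R]) := by
  have e := KaehlerDifferential.tensorKaehlerEquivBase R B C (B ⊗[R] C)
  exact ⟨fun h => e.toEquiv.subsingleton_congr.2 h.1, fun h => ⟨e.toEquiv.subsingleton_congr.1 h⟩⟩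

theorem subsingleton_tensor_kaehler (t : Set C) (ht : Algebra.adjoin R t = ⊤)
    (h : ∀ x ∈ t, (1 : B) ⊗ₜ[R] (KaehlerDifferential.D R C x) = 0) : Subsingleton (B ⊗[R] Ω[C⁄R]) := by
  let N : Submodule C (Ω[C⁄R]) :=
    { carrier := {ω | (1 : B) ⊗ₜ[R] ω = 0}
      add_mem' := by
        intro a b ha hb
        change (1 : B) ⊗ₜ[R] (a + b) = 0
        rw [TensorProduct.tmul_add, show (1 : B) ⊗ₜ[R] a = 0 from ha, show (1 : B) ⊗ₜ[R] b = 0 from hb, add_zero]
      zero_mem' := TensorProduct.tmul_zero _ _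
      smul_mem' := by
        intro c ω hω
        have := congrArg (LinearMap.lTensor B ((LinearMap.lsmul C (Ω[C⁄R]) c).restrictScalars R))
          (show (1 : B) ⊗ₜ[R] ω = 0 from hω)
        rwa [map_zero, LinearMap.lTensor_tmul] at this }
  have hD : ∀ y : C, KaehlerDifferential.D R C y ∈ N := by
    intro y
    have hy : y ∈ Algebra.adjoin R t := by rw [ht]; trivial
    induction hy using Algebra.adjoin_induction with
    | mem x hx => exact h x hx
    | algebraMap r => rw [Derivation.map_algebraMap]; exact N.zero_mem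
    | add a b _ _ ha hb => rw [map_add]; exact N.add_mem ha hb
    | mul a b _ _ ha hb =>
      rw [Derivation.leibniz]
      exact N.add_mem (N.smul_mem _ hb) (N.smul_mem _ ha)
  have hN : N = ⊤ := by
    rw [eq_top_iff, ← KaehlerDifferential.span_range_derivation, Submodule.span_le]
    rintro _ ⟨y, rfl⟩
    exact hD y
  refine ⟨fun a b => ?_⟩
  have hz : ∀ z : B ⊗[R] Ω[C⁄R], z = 0 := by
    intro z
    induction z using TensorProduct.induction_on with
    | zero => rfl
    | add a b ha hb => rw [ha, hb, add_zero]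
    | tmul b ω =>
      have h1 : b ⊗ₜ[R] ω = b • ((1 : B) ⊗ₜ[R] ω) := by
        rw [TensorProduct.smul_tmul', smul_eq_mul, mul_one]
      have h2 : ω ∈ N := by rw [hN]; trivial
      rw [h1, show (1 : B) ⊗ₜ[R] ω = 0 from h2, smul_zero]
  rw [hz a, hz b]

section Smooth

variable {P : Type*} [CommRing P] [Algebra R P] (f : P →ₐ[R] C) (q : (P ⧸ RingHom.ker f ^ 2) →ₐ[R] C)
  (hq : ∀ x, q (Ideal.Quotient.mk _ x) = f x)

include hq in
theorem ker_sq_eq_bot : RingHom.ker q ^ 2 = ⊥ := by
  have h1 : RingHom.ker q = (RingHom.ker f).map (Ideal.Quotient.mk (RingHom.ker f ^ 2)) := by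
    ext y
    obtain ⟨x, rfl⟩ := Ideal.Quotient.mk_surjective y
    constructor
    · intro h
      refine Ideal.mem_map_of_mem _ ?_
      rw [RingHom.mem_ker] at h ⊢
      rwa [← hq]
    · intro h
      have h2 : (RingHom.ker f).map (Ideal.Quotient.mk (RingHom.ker f ^ 2)) ≤ RingHom.ker q := by
        rw [Ideal.map_le_iff_le_comap]
        intro z hz
        rw [Ideal.mem_comap, RingHom.mem_ker, hq]
        exact hz
      exact h2 h
  rw [h1, ← Ideal.map_pow, Ideal.map_quotient_self]

theorem tensor_ker_sq_eq_bot {D : Type*} [CommRing D] [Algebra R D] (q : D →ₐ[R] C)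
    (hqs : Function.Surjective q) (hqker : RingHom.ker q ^ 2 = ⊥) :
    RingHom.ker (Algebra.TensorProduct.map (AlgHom.id B B) q) ^ 2 = ⊥ := by
  have h1 : RingHom.ker (Algebra.TensorProduct.map (AlgHom.id B B) q) = (RingHom.ker q).map
      (Algebra.TensorProduct.includeRight : D →ₐ[R] B ⊗[R] D) :=
    Algebra.TensorProduct.lTensor_ker (A := B) q hqs
  rw [h1, ← Ideal.map_pow, hqker, Ideal.map_bot]

theorem exists_lift_of_surjective {S X Y Z : Type*} [CommRing S] [CommRing X] [CommRing Y] [CommRing Z]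
    [Algebra S X] [Algebra S Y] [Algebra S Z] [Algebra.FormallySmooth S X] (F : Y →ₐ[S] Z)
    (hF : Function.Surjective F) (hN : RingHom.ker F ^ 2 = ⊥) (u : X →ₐ[S] Z) :
    ∃ τ : X →ₐ[S] Y, ∀ x, F (τ x) = u x :=
  ⟨Algebra.FormallySmooth.liftOfSurjective u F hF ⟨2, hN⟩,
    Algebra.FormallySmooth.liftOfSurjective_apply u F hF ⟨2, hN⟩⟩

/-- If `B ⊗ C` is formally smooth over `B`, then the square zero thickening `D → C` has a section after base change. -/
theorem exists_section_of_formallySmooth {D : Type*} [CommRing D] [Algebra R D] (q : D →ₐ[R] C)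
    (hqs : Function.Surjective q) (hqker : RingHom.ker q ^ 2 = ⊥) [Algebra.FormallySmooth B (B ⊗[R] C)] :
    ∃ σ : C →ₐ[R] B ⊗[R] D,
      (Algebra.TensorProduct.map (AlgHom.id R B) q).comp σ = Algebra.TensorProduct.includeRight := by
  have hF : Function.Surjective (Algebra.TensorProduct.map (AlgHom.id B B) q) := by
    intro z
    induction z using TensorProduct.induction_on with
    | zero => exact ⟨0, map_zero _⟩
    | add a b ha hb =>
      obtain ⟨a', rfl⟩ := ha
      obtain ⟨b', rfl⟩ := hb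
      exact ⟨a' + b', map_add _ _ _⟩
    | tmul b c =>
      obtain ⟨d, rfl⟩ := hqs c
      exact ⟨b ⊗ₜ[R] d, Algebra.TensorProduct.map_tmul _ _ _ _⟩
  have hFker := tensor_ker_sq_eq_bot (B := B) q hqs hqker
  obtain ⟨τ, hτ⟩ := exists_lift_of_surjective (Algebra.TensorProduct.map (AlgHom.id B B) q) hF hFker
    (AlgHom.id B (B ⊗[R] C))
  refine ⟨(τ.restrictScalars R).comp Algebra.TensorProduct.includeRight, AlgHom.ext fun c => ?_⟩
  exact hτ ((1 : B) ⊗ₜ[R] c)

theorem ker_sq_le (B : Type*) [CommRing B] [Algebra R B] : RingHom.ker f ^ 2 ≤ RingHom.ker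
    (((Ideal.Quotient.mkₐ B
      (RingHom.ker (Algebra.TensorProduct.map (AlgHom.id B B) f) ^ 2)).restrictScalars R).comp
        (Algebra.TensorProduct.includeRight : P →ₐ[R] B ⊗[R] P)) := by
  rw [pow_two, Ideal.mul_le]
  intro x hx y hy
  rw [RingHom.mem_ker] at hx hy ⊢
  have h1 : ∀ z, f z = 0 → (Algebra.TensorProduct.includeRight : P →ₐ[R] B ⊗[R] P) z ∈
      RingHom.ker (Algebra.TensorProduct.map (AlgHom.id B B) f) := by
    intro z hz
    rw [RingHom.mem_ker, Algebra.TensorProduct.includeRight_apply, Algebra.TensorProduct.map_tmul, hz,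
      TensorProduct.tmul_zero]
  have h2 : (Algebra.TensorProduct.includeRight : P →ₐ[R] B ⊗[R] P) (x * y) ∈
      RingHom.ker (Algebra.TensorProduct.map (AlgHom.id B B) f) ^ 2 := by
    rw [map_mul, pow_two]
    exact Ideal.mul_mem_mul (h1 x hx) (h1 y hy)
  exact Ideal.Quotient.eq_zero_iff_mem.2 h2

include hq in
/-- If `P / I² → C` has a section after base change to `B`, `P` formally smooth, then `B ⊗ C` is formally smooth
over `B`. -/
theorem formallySmooth_of_section [Algebra.FormallySmooth R P]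
    (σ : C →ₐ[R] B ⊗[R] (P ⧸ RingHom.ker f ^ 2))
    (hσ : (Algebra.TensorProduct.map (AlgHom.id R B) q).comp σ = Algebra.TensorProduct.includeRight) :
    Algebra.FormallySmooth B (B ⊗[R] C) := by
  let f' : B ⊗[R] P →ₐ[B] B ⊗[R] C := Algebra.TensorProduct.map (AlgHom.id B B) f
  let κ : (P ⧸ RingHom.ker f ^ 2) →ₐ[R] (B ⊗[R] P ⧸ RingHom.ker f'.toRingHom ^ 2) :=
    Ideal.Quotient.liftₐ _ _ fun a ha => ker_sq_le f B ha
  have hκ : ∀ x : P, κ (Ideal.Quotient.mk _ x) =
      Ideal.Quotient.mk (RingHom.ker f'.toRingHom ^ 2) ((1 : B) ⊗ₜ[R] x) := fun x => rfl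
  let K : B ⊗[R] (P ⧸ RingHom.ker f ^ 2) →ₐ[B] (B ⊗[R] P ⧸ RingHom.ker f'.toRingHom ^ 2) :=
    Algebra.TensorProduct.lift (Algebra.ofId _ _) κ fun _ _ => Commute.all _ _
  let S : B ⊗[R] C →ₐ[B] B ⊗[R] (P ⧸ RingHom.ker f ^ 2) :=
    Algebra.TensorProduct.lift (Algebra.ofId _ _) σ fun _ _ => Commute.all _ _
  refine Algebra.FormallySmooth.of_split f' (K.comp S) ?_
  have hK : f'.kerSquareLift.comp K = Algebra.TensorProduct.map (AlgHom.id B B) q := by
    refine Algebra.TensorProduct.ext (Subsingleton.elim _ _) (AlgHom.ext fun z => ?_)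
    obtain ⟨x, rfl⟩ := Ideal.Quotient.mk_surjective z
    have h1 : K ((1 : B) ⊗ₜ[R] Ideal.Quotient.mk _ x) =
        Ideal.Quotient.mk (RingHom.ker f'.toRingHom ^ 2) ((1 : B) ⊗ₜ[R] x) := by
      rw [Algebra.TensorProduct.lift_tmul, map_one, one_mul, hκ]
    have h2 : f'.kerSquareLift (Ideal.Quotient.mk (RingHom.ker f'.toRingHom ^ 2) ((1 : B) ⊗ₜ[R] x)) =
        (1 : B) ⊗ₜ[R] f x := rfl
    change f'.kerSquareLift (K ((1 : B) ⊗ₜ[R] Ideal.Quotient.mk _ x)) =
      (1 : B) ⊗ₜ[R] q (Ideal.Quotient.mk _ x)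
    rw [hq, h1, h2]
  rw [← AlgHom.comp_assoc, hK]
  refine Algebra.TensorProduct.ext (Subsingleton.elim _ _) (AlgHom.ext fun c => ?_)
  have h3 : S ((1 : B) ⊗ₜ[R] c) = σ c := by
    rw [Algebra.TensorProduct.lift_tmul, map_one, one_mul]
  change Algebra.TensorProduct.map (AlgHom.id B B) q (S ((1 : B) ⊗ₜ[R] c)) = (1 : B) ⊗ₜ[R] c
  rw [h3]
  exact DFunLike.congr_fun hσ c

end Smooth

end Aux

variable {ι : Type v} {R : Type u} [CommRing R] {G : ι → Type w} [∀ i, CommRing (G i)]
  [∀ i, Algebra R (G i)] {A : Type w'} [CommRing A] [Algebra R A]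
  {T : ∀ i j, (G i →ₐ[R] G j) → Prop} {g : ∀ i, G i →ₐ[R] A} (C : Type x) [CommRing C] [Algebra R C]

namespace IsDirColim

/-- Surjectivity descends. -/
theorem exists_surjective (H : IsDirColim T g) [Algebra.FiniteType R C]
    (h : Function.Surjective (algebraMap A (A ⊗[R] C))) :
    ∃ i, Function.Surjective (algebraMap (G i) (G i ⊗[R] C)) := by
  classical
  obtain ⟨t, ht⟩ := (inferInstance : Algebra.FiniteType R C).out
  obtain ⟨i, hi⟩ := H.exists_forall_mem t
    (fun x i => ∃ b : G i, b ⊗ₜ[R] (1 : C) = (1 : G i) ⊗ₜ[R] x) (fun x _ => by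
      obtain ⟨a, ha⟩ := h ((1 : A) ⊗ₜ[R] x)
      obtain ⟨i, b, rfl⟩ := H.surj a
      obtain ⟨j, f, hT, hf⟩ := H.rTensor_ker C i (b ⊗ₜ[R] (1 : C) - (1 : G i) ⊗ₜ[R] x) (by
        rw [map_sub, LinearMap.rTensor_tmul, LinearMap.rTensor_tmul, sub_eq_zero, AlgHom.toLinearMap_apply,
          AlgHom.toLinearMap_apply, map_one]
        exact ha)
      refine ⟨j, f b, ?_⟩
      rw [map_sub, LinearMap.rTensor_tmul, LinearMap.rTensor_tmul, sub_eq_zero, AlgHom.toLinearMap_apply,
          AlgHom.toLinearMap_apply, map_one] at hf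
      exact hf) (by
      rintro x _ i j f hT ⟨b, hb⟩
      refine ⟨f b, ?_⟩
      have := congrArg (f.toLinearMap.rTensor C) hb
      rwa [LinearMap.rTensor_tmul, LinearMap.rTensor_tmul, AlgHom.toLinearMap_apply,
          AlgHom.toLinearMap_apply, map_one] at this)
  refine ⟨i, ?_⟩
  have := eq_top_of_generators (B := G i) (Algebra.ofId (G i) (G i ⊗[R] C)).range (t : Set C) ht
    (fun x hx => by
      obtain ⟨b, hb⟩ := hi x hx
      exact ⟨b, hb⟩)
  intro z
  have hz : z ∈ (Algebra.ofId (G i) (G i ⊗[R] C)).range := by rw [this]; trivial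
  exact hz

/-- Integrality of an element descends. -/
theorem exists_isIntegral (H : IsDirColim T g) (x : C) (hx : IsIntegral A ((1 : A) ⊗ₜ[R] x)) :
    ∃ i, IsIntegral (G i) ((1 : G i) ⊗ₜ[R] x) := by
  classical
  obtain ⟨p, hp, hpx⟩ := hx
  obtain ⟨i, hi⟩ := H.exists_lift_finset (insert 0 p.coeffs)
  have hlift : p ∈ Polynomial.lifts (g i : G i →+* A) := by
    rw [Polynomial.lifts_iff_coeff_lifts]
    intro n
    by_cases hn : n ∈ p.support
    · exact hi _ (Finset.mem_insert_of_mem (Polynomial.coeff_mem_coeffs (Polynomial.mem_support_iff.1 hn)))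
    · rw [Polynomial.notMem_support_iff.1 hn]
      exact ⟨0, map_zero _⟩
  obtain ⟨q, hq, -, hqm⟩ := Polynomial.lifts_and_natDegree_eq_and_monic hlift hp
  obtain ⟨j, f, hT, hf⟩ := H.rTensor_ker C i (Polynomial.aeval ((1 : G i) ⊗ₜ[R] x) q) (by
    change Algebra.TensorProduct.map (g i) (AlgHom.id R C) (Polynomial.aeval ((1 : G i) ⊗ₜ[R] x) q) = 0
    rw [← hpx, ← hq, Polynomial.eval₂_map, Polynomial.aeval_def, ← AlgHom.coe_toRingHom,
      Polynomial.hom_eval₂]
    congr 1
    simp)
  refine ⟨j, q.map (f : G i →+* G j), hqm.map _, ?_⟩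
  rw [← hf]
  change _ = Algebra.TensorProduct.map f (AlgHom.id R C) (Polynomial.aeval ((1 : G i) ⊗ₜ[R] x) q)
  rw [Polynomial.eval₂_map, Polynomial.aeval_def, ← AlgHom.coe_toRingHom,
      Polynomial.hom_eval₂]
  congr 1
  simp

/-- Finiteness descends. -/
theorem exists_finite (H : IsDirColim T g) [Algebra.FiniteType R C]
    (h : Module.Finite A (A ⊗[R] C)) : ∃ i, Module.Finite (G i) (G i ⊗[R] C) := by
  classical
  obtain ⟨t, ht⟩ := (inferInstance : Algebra.FiniteType R C).out
  obtain ⟨i, hi⟩ := H.exists_forall_mem t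
    (fun x i => IsIntegral (G i) ((1 : G i) ⊗ₜ[R] x))
    (fun x _ => H.exists_isIntegral C x (Algebra.IsIntegral.isIntegral _)) (by
      intro x _ i j f hT hx
      have := IsIntegral.map_of_comp_eq (f : G i →+* G j)
        (Algebra.TensorProduct.map f (AlgHom.id R C)).toRingHom (by
          ext b
          simp) hx
      simpa using this)
  refine ⟨i, ?_⟩
  have := eq_top_of_generators (B := G i) (integralClosure (G i) (G i ⊗[R] C)) (t : Set C) ht
    (fun x hx => hi x hx)
  have hint : Algebra.IsIntegral (G i) (G i ⊗[R] C) := ⟨fun z => by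
    have hz : z ∈ integralClosure (G i) (G i ⊗[R] C) := by rw [this]; trivial
    exact hz⟩
  exact Algebra.IsIntegral.finite

/-- Unramifiedness descends. -/
theorem exists_formallyUnramified (H : IsDirColim T g) [Algebra.FiniteType R C]
    (h : Algebra.FormallyUnramified A (A ⊗[R] C)) : ∃ i, Algebra.FormallyUnramified (G i) (G i ⊗[R] C) := by
  classical
  rw [formallyUnramified_tensor_iff] at h
  obtain ⟨t, ht⟩ := (inferInstance : Algebra.FiniteType R C).out
  obtain ⟨i, hi⟩ := H.exists_forall_mem t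
    (fun x i => (1 : G i) ⊗ₜ[R] (KaehlerDifferential.D R C x) = 0)
    (fun x _ => by
      obtain ⟨i⟩ := H.nonempty
      obtain ⟨j, f, hT, hf⟩ := H.rTensor_ker (Ω[C⁄R]) i ((1 : G i) ⊗ₜ[R] (KaehlerDifferential.D R C x))
        (Subsingleton.elim _ _)
      refine ⟨j, ?_⟩
      rwa [LinearMap.rTensor_tmul, AlgHom.toLinearMap_apply, map_one] at hf)
    (by
      intro x _ i j f hT hx
      have := congrArg (f.toLinearMap.rTensor (Ω[C⁄R])) hx
      rwa [LinearMap.rTensor_tmul, AlgHom.toLinearMap_apply, map_one, map_zero] at this)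
  exact ⟨i, formallyUnramified_tensor_iff.2 (subsingleton_tensor_kaehler (t : Set C) ht hi)⟩

/-- Bijectivity descends. -/
theorem exists_bijective (H : IsDirColim T g) [Algebra.FinitePresentation R C]
    (h : Function.Bijective (algebraMap A (A ⊗[R] C))) :
    ∃ i, Function.Bijective (algebraMap (G i) (G i ⊗[R] C)) := by
  classical
  obtain ⟨i, hi⟩ := H.exists_surjective C h.2
  have hfg : (RingHom.ker (Algebra.ofId (G i) (G i ⊗[R] C))).FG :=
    Algebra.FinitePresentation.ker_fG_of_surjective (Algebra.ofId (G i) (G i ⊗[R] C)) hi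
  obtain ⟨s, hs⟩ := hfg
  obtain ⟨j, f, hT, hf⟩ := H.exists_kill i s (by
    intro y hy
    have hy' : y ∈ RingHom.ker (Algebra.ofId (G i) (G i ⊗[R] C)) := hs ▸ Ideal.subset_span hy
    apply h.1
    have := congrArg ((g i).toLinearMap.rTensor C) (show y ⊗ₜ[R] (1 : C) = 0 from hy')
    rw [LinearMap.rTensor_tmul, map_zero] at this
    rw [map_zero]
    exact this)
  have hker : RingHom.ker (Algebra.ofId (G i) (G i ⊗[R] C)) ≤ RingHom.ker f := by
    rw [← hs, Ideal.span_le]
    intro y hy
    exact hf y hy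
  -- the retraction
  let ρ : (G i ⊗[R] C) →+* G j :=
    (Ideal.Quotient.lift (RingHom.ker (Algebra.ofId (G i) (G i ⊗[R] C))) (f : G i →+* G j)
      (fun a ha => hker ha)).comp
      (RingHom.quotientKerEquivOfSurjective (f := algebraMap (G i) (G i ⊗[R] C)) hi).symm.toRingHom
  have hρ : ∀ b : G i, ρ (algebraMap (G i) (G i ⊗[R] C) b) = f b := by
    intro b
    have h1 : (RingHom.quotientKerEquivOfSurjective (f := algebraMap (G i) (G i ⊗[R] C)) hi).symm
        (algebraMap (G i) (G i ⊗[R] C) b) = Ideal.Quotient.mk _ b := by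
      rw [RingEquiv.symm_apply_eq]
      rfl
    change (Ideal.Quotient.lift (RingHom.ker (Algebra.ofId (G i) (G i ⊗[R] C))) (f : G i →+* G j)
      (fun a ha => hker ha)) ((RingHom.quotientKerEquivOfSurjective hi).symm _) = f b
    rw [h1]
    rfl
  let r : C →ₐ[R] G j :=
    { (ρ.comp (Algebra.TensorProduct.includeRight : C →ₐ[R] G i ⊗[R] C).toRingHom) with
      commutes' := by
        intro a
        change ρ ((1 : G i) ⊗ₜ[R] algebraMap R C a) = _
        have : (1 : G i) ⊗ₜ[R] algebraMap R C a = algebraMap (G i) (G i ⊗[R] C) (algebraMap R (G i) a) := by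
          rw [Algebra.TensorProduct.algebraMap_apply, Algebra.algebraMap_self, RingHom.id_apply,
            Algebra.algebraMap_eq_smul_one, Algebra.algebraMap_eq_smul_one, TensorProduct.smul_tmul]
        rw [this, hρ, AlgHom.commutes] }
  let r' : G j ⊗[R] C →ₐ[G j] G j := Algebra.TensorProduct.lift (AlgHom.id (G j) (G j)) r fun _ _ => Commute.all _ _
  have hinj : Function.Injective (algebraMap (G j) (G j ⊗[R] C)) := by
    have : Function.LeftInverse r' (algebraMap (G j) (G j ⊗[R] C)) := fun b => by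
      rw [AlgHom.commutes]; rfl
    exact this.injective
  refine ⟨j, hinj, ?_⟩
  -- surjectivity persists
  intro z
  have htop := eq_top_of_generators (B := G j) (Algebra.ofId (G j) (G j ⊗[R] C)).range (Set.univ : Set C)
    (by rw [Algebra.adjoin_univ]) (fun x _ => by
      obtain ⟨b, hb⟩ := hi ((1 : G i) ⊗ₜ[R] x)
      refine ⟨f b, ?_⟩
      have := congrArg (f.toLinearMap.rTensor C) (show b ⊗ₜ[R] (1 : C) = (1 : G i) ⊗ₜ[R] x from hb)
      rw [LinearMap.rTensor_tmul, LinearMap.rTensor_tmul, AlgHom.toLinearMap_apply,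
          AlgHom.toLinearMap_apply, map_one] at this
      exact this)
  have hz : z ∈ (Algebra.ofId (G j) (G j ⊗[R] C)).range := by rw [htop]; trivial
  exact hz

/-- Formal smoothness of a finitely presented algebra descends. -/
theorem exists_formallySmooth (H : IsDirColim T g) [Algebra.FinitePresentation R C]
    (h : Algebra.FormallySmooth A (A ⊗[R] C)) : ∃ i, Algebra.FormallySmooth (G i) (G i ⊗[R] C) := by
  classical
  obtain ⟨n, f, hf, -⟩ := Algebra.FinitePresentation.out (R := R) (A := C)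
  let q : (MvPolynomial (Fin n) R ⧸ RingHom.ker f ^ 2) →ₐ[R] C :=
    Ideal.Quotient.liftₐ _ f fun a ha => Ideal.pow_le_self two_ne_zero ha
  have hq : ∀ x, q (Ideal.Quotient.mk _ x) = f x := fun x => rfl
  have hqs : Function.Surjective q := fun c => by
    obtain ⟨x, rfl⟩ := hf c
    exact ⟨_, hq x⟩
  obtain ⟨σ, hσ⟩ := exists_section_of_formallySmooth (B := A) q hqs (ker_sq_eq_bot f q hq)
  have H' := H.baseChange' (MvPolynomial (Fin n) R ⧸ RingHom.ker f ^ 2)
  obtain ⟨i, s, hs⟩ := H'.exists_algHom σ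
  have H'' := H.baseChange' C
  have key : (Algebra.TensorProduct.map (g i) (AlgHom.id R C)).comp
      ((Algebra.TensorProduct.map (AlgHom.id R (G i)) q).comp s) =
      (Algebra.TensorProduct.map (g i) (AlgHom.id R C)).comp
        (Algebra.TensorProduct.includeRight : C →ₐ[R] G i ⊗[R] C) := by
    rw [← AlgHom.comp_assoc, ← Algebra.TensorProduct.map_comp, AlgHom.comp_id, AlgHom.id_comp]
    have h1 : (Algebra.TensorProduct.map (g i) (AlgHom.id R C)).comp
        (Algebra.TensorProduct.includeRight : C →ₐ[R] G i ⊗[R] C) = Algebra.TensorProduct.includeRight := by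
      ext c
      simp
    rw [h1, ← hσ, ← hs, ← AlgHom.comp_assoc, ← Algebra.TensorProduct.map_comp, AlgHom.comp_id,
      AlgHom.id_comp]
  obtain ⟨j, _, ⟨u, hT, rfl⟩, hu⟩ := H''.exists_algHom_eq i _ _ key
  refine ⟨j, formallySmooth_of_section f q hq ((Algebra.TensorProduct.map u (AlgHom.id R _)).comp s) ?_⟩
  have h2 : (Algebra.TensorProduct.map u (AlgHom.id R C)).comp
        (Algebra.TensorProduct.includeRight : C →ₐ[R] G i ⊗[R] C) = Algebra.TensorProduct.includeRight := by
    ext c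
    simp
  rw [← h2, ← hu, ← AlgHom.comp_assoc, ← AlgHom.comp_assoc, ← Algebra.TensorProduct.map_comp,
    ← Algebra.TensorProduct.map_comp, AlgHom.comp_id, AlgHom.id_comp, AlgHom.comp_id, AlgHom.id_comp]

/-- Smoothness descends. -/
theorem exists_smooth (H : IsDirColim T g) [Algebra.FinitePresentation R C]
    (h : Algebra.Smooth A (A ⊗[R] C)) : ∃ i, Algebra.Smooth (G i) (G i ⊗[R] C) := by
  obtain ⟨i, hi⟩ := H.exists_formallySmooth C h.1
  exact ⟨i, ⟨hi, inferInstance⟩⟩

/-- Formal étaleness of a finitely presented algebra descends. -/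
theorem exists_formallyEtale (H : IsDirColim T g) [Algebra.FinitePresentation R C]
    (h : Algebra.FormallyEtale A (A ⊗[R] C)) : ∃ i, Algebra.FormallyEtale (G i) (G i ⊗[R] C) := by
  obtain ⟨i, hi⟩ := H.exists_formallySmooth C inferInstance
  obtain ⟨j, hj⟩ := H.exists_formallyUnramified C inferInstance
  obtain ⟨k, h1, h2, hT1, hT2⟩ := H.dir i j
  have e : ∀ {l : ι} (f : G l →ₐ[R] G k), let _ := f.toRingHom.toAlgebra
      Nonempty ((G k ⊗[G l] (G l ⊗[R] C)) ≃ₐ[G k] (G k ⊗[R] C)) := by
    intro l f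
    let _ := f.toRingHom.toAlgebra
    have : IsScalarTower R (G l) (G k) := IsScalarTower.of_algebraMap_eq fun x => (f.commutes x).symm
    exact ⟨Algebra.TensorProduct.cancelBaseChange R (G l) (G k) (G k) C⟩
  have hs : Algebra.FormallySmooth (G k) (G k ⊗[R] C) := by
    obtain ⟨e⟩ := e h1
    let _ := h1.toRingHom.toAlgebra
    exact Algebra.FormallySmooth.of_equiv e
  have hu : Algebra.FormallyUnramified (G k) (G k ⊗[R] C) := by
    obtain ⟨e⟩ := e h2
    let _ := h2.toRingHom.toAlgebra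
    exact Algebra.FormallyUnramified.of_equiv e
  exact ⟨k, Algebra.FormallyEtale.of_formallyUnramified_and_formallySmooth⟩

/-- Étaleness descends. -/
theorem exists_etale (H : IsDirColim T g) [Algebra.FinitePresentation R C]
    (h : Algebra.Etale A (A ⊗[R] C)) : ∃ i, Algebra.Etale (G i) (G i ⊗[R] C) := by
  obtain ⟨i, hi⟩ := H.exists_formallyEtale C inferInstance
  exact ⟨i, ⟨hi, inferInstance⟩⟩

end IsDirColim

end K73.DirColim
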