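import Groth.Prelude.Def_Found
import Groth.Agent.CalgB.RegHom4
import Groth.Agent.CalgB.RegDer
import Groth.Agent.CalgB.RegHom2
import Groth.Agent.Ega41.RedTensor
import Mathlib.RingTheory.Etale.Weakly
import Mathlib.RingTheory.Etale.Field
import Mathlib.RingTheory.Unramified.Finite
import Mathlib.RingTheory.Unramified.Field
import Mathlib.FieldTheory.IntermediateField.Adjoin.Algebra

/-!
# Geometric regularity and the base field

* `exists_descent_of_repr`: a finite field extension of `k` whose structure constants lie in a subfield `F`
  comes from `F`;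
* `isGeometricallyRegular_of_directed`: geometric regularity over a directed union of subfields;
* `isGeometricallyRegular_of_restrict_finite_separable`, `isGeometricallyRegular_of_isSeparable`.
-/

set_option autoImplicit false
universe u

namespace K73.GeomReg

open TensorProduct IsLocalRing

/-- A finite extension `k'` of `k` with structure constants in the subfield `F` comes from a finite extension of
`F`. -/
theorem exists_descent_of_repr {F k k' : Type u} [Field F] [Field k] [Field k'] [Algebra F k] [Algebra k k']
    [Algebra F k'] [IsScalarTower F k k'] {n : ℕ} (b : Module.Basis (Fin n) k k')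
    (hmul : ∀ i j l, b.repr (b i * b j) l ∈ Set.range (algebraMap F k))
    (hone : ∀ l, b.repr 1 l ∈ Set.range (algebraMap F k)) :
    ∃ E : Subalgebra F k', Module.Finite F E ∧
      Function.Bijective (Algebra.TensorProduct.productLeftAlgHom (Algebra.ofId k k') E.val) := by
  classical
  choose c hc using hmul
  choose d hd using hone
  let N : Submodule F k' := Submodule.span F (Set.range b)
  have hb : ∀ i, b i ∈ N := fun i => Submodule.subset_span ⟨i, rfl⟩
  have h1 : (1 : k') ∈ N := by
    rw [← b.sum_repr 1]
    refine Submodule.sum_mem _ fun l _ => ?_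
    rw [← hd l, algebraMap_smul]
    exact N.smul_mem _ (hb l)
  have hbb : ∀ i j, b i * b j ∈ N := by
    intro i j
    rw [← b.sum_repr (b i * b j)]
    refine Submodule.sum_mem _ fun l _ => ?_
    rw [← hc i j l, algebraMap_smul]
    exact N.smul_mem _ (hb l)
  have hmul' : ∀ x y, x ∈ N → y ∈ N → x * y ∈ N := by
    intro x y hx hy
    have h2 : N * N ≤ N := by
      rw [Submodule.span_mul_span, Submodule.span_le]
      rintro _ ⟨_, ⟨i, rfl⟩, _, ⟨j, rfl⟩, rfl⟩
      exact hbb i j
    exact h2 (Submodule.mul_mem_mul hx hy)
  let E : Subalgebra F k' := N.toSubalgebra h1 hmul'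
  have hfin : Module.Finite F E := Module.Finite.span_of_finite F (Set.finite_range b)
  refine ⟨E, hfin, ?_⟩
  -- the basis of `E`
  have hli : LinearIndependent F b := b.linearIndependent.restrict_scalars (R := F) (by
    intro x y hxy
    simpa [Algebra.smul_def] using hxy)
  have hsurj : Function.Surjective
      (Algebra.TensorProduct.productLeftAlgHom (Algebra.ofId k k') E.val) := by
    intro x
    refine ⟨∑ i, b.repr x i ⊗ₜ[F] (⟨b i, hb i⟩ : E), ?_⟩
    rw [map_sum]
    conv_rhs => rw [← b.sum_repr x]
    refine Finset.sum_congr rfl fun i _ => ?_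
    simp [Algebra.TensorProduct.productLeftAlgHom, Algebra.smul_def, Algebra.ofId_apply]
  have hrk : Module.finrank k (k ⊗[F] E) = Module.finrank k k' := by
    rw [Module.finrank_baseChange, Module.finrank_eq_card_basis b]
    exact Module.finrank_eq_card_basis (Module.Basis.span hli)
  refine ⟨?_, hsurj⟩
  have : Module.Finite k k' := Module.Finite.of_basis b
  exact (LinearMap.injective_iff_surjective_of_finrank_eq_finrank
    (f := (Algebra.TensorProduct.productLeftAlgHom (Algebra.ofId k k') E.val).toLinearMap) hrk).2 hsurj

/-- If `k' = k ⊗_F E` for a finite `F`-subalgebra `E`, then `k' ⊗_k A` is regular as soon as `A` is geometrically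
regular over `F`. -/
theorem isRegularRing_of_descent {F k k' A : Type u} [Field F] [Field k] [Field k'] [Algebra F k] [Algebra k k']
    [Algebra F k'] [IsScalarTower F k k'] [CommRing A] [Algebra k A] [Algebra F A] [IsScalarTower F k A]
    (hA : CAlg.IsGeometricallyRegular F A) (E : Subalgebra F k') [Module.Finite F E]
    (hE : Function.Bijective (Algebra.TensorProduct.productLeftAlgHom (Algebra.ofId k k') E.val)) :
    IsRegularRing (k' ⊗[k] A) := by
  have hfield : IsField E := isField_of_isIntegral_of_isField' (R := F) (Field.toIsField F)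
  let _ : Field E := hfield.toField
  have h1 : IsRegularRing (E ⊗[F] A) := hA E inferInstance
  have e1 : k ⊗[F] E ≃ₐ[k] k' := AlgEquiv.ofBijective _ hE
  have h2 : IsRegularRing (A ⊗[F] E) := .of_ringEquiv (Algebra.TensorProduct.comm F E A).toRingEquiv
  have h3 : IsRegularRing (A ⊗[k] (k ⊗[F] E)) :=
    .of_ringEquiv (Algebra.TensorProduct.cancelBaseChange F k k A E).symm.toRingEquiv
  have h4 : IsRegularRing (A ⊗[k] k') :=
    IsRegularRing.of_ringEquiv (R := A ⊗[k] (k ⊗[F] E))
      (Algebra.TensorProduct.congr (AlgEquiv.refl : A ≃ₐ[k] A) e1).toRingEquiv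
  exact .of_ringEquiv (Algebra.TensorProduct.comm k A k').toRingEquiv

/-- Geometric regularity over a directed union of subfields. -/
theorem isGeometricallyRegular_of_directed (k : Type u) [Field k] {ι : Type u}
    (K : ι → Type u) [∀ i, Field (K i)] [∀ i, Algebra (K i) k]
    (hdir : ∀ i j, ∃ l, Set.range (algebraMap (K i) k) ⊆ Set.range (algebraMap (K l) k) ∧
      Set.range (algebraMap (K j) k) ⊆ Set.range (algebraMap (K l) k))
    (hcov : ∀ x : k, ∃ i, x ∈ Set.range (algebraMap (K i) k))
    (A : Type u) [CommRing A] [Algebra k A] [∀ i, Algebra (K i) A]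
    [∀ i, IsScalarTower (K i) k A] (h : ∀ i, CAlg.IsGeometricallyRegular (K i) A) :
    CAlg.IsGeometricallyRegular k A := by
  classical
  intro k' _ _ hk'
  have hfin : ∀ s : Finset k, ∃ i, (s : Set k) ⊆ Set.range (algebraMap (K i) k) := by
    intro s
    induction s using Finset.induction_on with
    | empty =>
      obtain ⟨i, -⟩ := hcov 0
      exact ⟨i, by simp⟩
    | insert x s _ ih =>
      obtain ⟨i, hi⟩ := ih
      obtain ⟨j, hj⟩ := hcov x
      obtain ⟨l, hl1, hl2⟩ := hdir i j
      refine ⟨l, ?_⟩
      rw [Finset.coe_insert, Set.insert_subset_iff]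
      exact ⟨hl2 hj, hi.trans hl1⟩
  let b := Module.finBasis k k'
  obtain ⟨i, hi⟩ := hfin ((Finset.univ.image fun x : Fin (Module.finrank k k') × Fin (Module.finrank k k') ×
      Fin (Module.finrank k k') => b.repr (b x.1 * b x.2.1) x.2.2) ∪
    Finset.univ.image fun l => b.repr 1 l)
  let _ : Algebra (K i) k' := ((algebraMap k k').comp (algebraMap (K i) k)).toAlgebra
  have : IsScalarTower (K i) k k' := IsScalarTower.of_algebraMap_eq fun _ => rfl
  obtain ⟨E, hE, hE'⟩ := exists_descent_of_repr (F := K i) b
    (fun x y z => hi (by
      rw [Finset.coe_union, Finset.coe_image]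
      exact Or.inl ⟨(x, y, z), by simp, rfl⟩))
    (fun l => hi (by
      rw [Finset.coe_union, Finset.coe_image, Finset.coe_image]
      exact Or.inr ⟨l, by simp, rfl⟩))
  exact isRegularRing_of_descent (h i) E hE'

/-- Regularity passes to a flat quotient. -/
theorem isRegularRing_of_flat_surjective {R S : Type*} [CommRing R] [CommRing S] (f : R →+* S)
    (hs : Function.Surjective f) (hf : f.Flat) [IsRegularRing R] : IsRegularRing S := by
  let _ : Algebra R S := f.toAlgebra
  have : IsNoetherianRing S := isNoetherianRing_of_surjective _ _ f hs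
  have : Module.Flat R S := hf
  have hs' : Function.Surjective (algebraMap R S) := hs
  have : Algebra.FormallyUnramified R S := .of_surjective (Algebra.ofId _ _) hs'
  have : Algebra.FiniteType R S := .of_surjective (Algebra.ofId _ _) hs'
  exact Groth.Agent.CalgB.RegDer.isRegularRing_of_unramified (S := R)

/-- Geometric regularity over `k` implies geometric regularity over a finite separable extension `F` of `k` over
which the algebra is defined. -/
theorem isGeometricallyRegular_of_restrict_finite_separable (k F A : Type u) [Field k] [Field F] [Algebra k F]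
    [Module.Finite k F] [Algebra.IsSeparable k F] [CommRing A] [Algebra k A] [Algebra F A] [IsScalarTower k F A]
    (h : CAlg.IsGeometricallyRegular k A) : CAlg.IsGeometricallyRegular F A := by
  intro K _ _ hK
  let _ : Algebra k K := ((algebraMap F K).comp (algebraMap k F)).toAlgebra
  have : IsScalarTower k F K := IsScalarTower.of_algebraMap_eq fun _ => rfl
  have : Module.Finite k K := Module.Finite.trans F K
  have h1 : IsRegularRing (K ⊗[k] A) := h K inferInstance
  have : Algebra.FormallyEtale k F := Algebra.FormallyEtale.of_isSeparable k F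
  have : Algebra.FinitePresentation k F := Algebra.FinitePresentation.of_finiteType.1 inferInstance
  have : Algebra.Etale k F := ⟨inferInstance, inferInstance⟩
  exact isRegularRing_of_flat_surjective
    (Algebra.TensorProduct.mapOfCompatibleSMul F k K K A).toRingHom
    (Algebra.TensorProduct.mapOfCompatibleSMul_surjective F k K K A)
    ((Algebra.WeaklyEtale.flat_lmul' k F).mapOfCompatibleSMul K A)

/-- Geometric regularity over `k` implies geometric regularity over a separable algebraic extension `k'` of `k` over
which the algebra is defined. -/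
theorem isGeometricallyRegular_of_restrict (k k' A : Type u) [Field k] [Field k'] [Algebra k k']
    [Algebra.IsSeparable k k'] [CommRing A] [Algebra k A] [Algebra k' A] [IsScalarTower k k' A]
    (h : CAlg.IsGeometricallyRegular k A) : CAlg.IsGeometricallyRegular k' A := by
  let K : Finset k' → Type u := fun s => IntermediateField.adjoin k (s : Set k')
  have hmono : ∀ s t : Finset k', s ⊆ t →
      Set.range (algebraMap (K s) k') ⊆ Set.range (algebraMap (K t) k') := by
    rintro s t hst _ ⟨x, rfl⟩
    exact ⟨⟨x.1, IntermediateField.adjoin.mono k _ _ (Finset.coe_subset.2 hst) x.2⟩, rfl⟩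
  classical
  refine isGeometricallyRegular_of_directed k' K (fun s t => ⟨s ∪ t, ?_, ?_⟩) (fun x => ⟨{x}, ?_⟩) A
    (fun s => ?_)
  · exact hmono _ _ Finset.subset_union_left
  · exact hmono _ _ Finset.subset_union_right
  · exact ⟨⟨x, IntermediateField.subset_adjoin k _ (by simp)⟩, rfl⟩
  · have : FiniteDimensional k (IntermediateField.adjoin k (s : Set k')) :=
      IntermediateField.finiteDimensional_adjoin fun x _ => Algebra.IsIntegral.isIntegral x
    have : IsScalarTower k (K s) A := IsScalarTower.of_algebraMap_eq fun x => by
      rw [IsScalarTower.algebraMap_apply k k' A]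
      rfl
    exact isGeometricallyRegular_of_restrict_finite_separable k (K s) A h

/-- Geometric regularity over a separable algebraic extension `k'` of `k` implies geometric regularity
over `k`. -/
theorem isGeometricallyRegular_restrict (k k' A : Type u) [Field k] [Field k'] [Algebra k k']
    [Algebra.IsSeparable k k'] [CommRing A] [Algebra k A] [Algebra k' A] [IsScalarTower k k' A]
    (h : CAlg.IsGeometricallyRegular k' A) : CAlg.IsGeometricallyRegular k A := by
  intro K _ _ hK
  -- `B = k' ⊗ K` is a finite reduced `k'`-algebra
  have hred : IsReduced (K ⊗[k] k') := Groth.Agent.Ega41.RedTensor.isReduced_tensor_of_isSeparable k K k'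
  have hred' : IsReduced (k' ⊗[k] K) :=
    isReduced_of_injective (Algebra.TensorProduct.comm k k' K) (Algebra.TensorProduct.comm k k' K).injective
  have hart : IsArtinianRing (k' ⊗[k] K) := IsArtinianRing.of_finite k' _
  have hreg : IsRegularRing (k' ⊗[k] K) := Groth.Agent.CalgB.RegHom2.isRegularRing_of_isArtinianRing _
  have hAreg : IsRegularRing (k' ⊗[k'] A) := h k' inferInstance
  have hAreg' : IsRegularRing A := .of_ringEquiv (Algebra.TensorProduct.lid k' A).toRingEquiv
  have hnoe : IsNoetherianRing ((k' ⊗[k] K) ⊗[k'] A) := by
    have h1 : Module.Finite A (A ⊗[k'] (k' ⊗[k] K)) := inferInstance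
    have h2 : IsNoetherianRing (A ⊗[k'] (k' ⊗[k] K)) := Algebra.FiniteType.isNoetherianRing A _
    exact isNoetherianRing_of_ringEquiv _ (Algebra.TensorProduct.comm k' A (k' ⊗[k] K)).toRingEquiv
  have key : IsRegularRing ((k' ⊗[k] K) ⊗[k'] A) := by
    refine Groth.Agent.CalgB.RegHom1.isRegularRing_of_flat_of_fiber (A := k' ⊗[k] K) fun p _ => ?_
    have : Module.Finite k' p.ResidueField := by
      have : Function.Surjective (algebraMap (k' ⊗[k] K) p.ResidueField) :=
        Ideal.algebraMap_residueField_surjective p
      exact Module.Finite.of_surjective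
        (IsScalarTower.toAlgHom k' (k' ⊗[k] K) p.ResidueField).toLinearMap this
    have h1 : IsRegularRing (p.ResidueField ⊗[k'] A) := h p.ResidueField inferInstance
    exact .of_ringEquiv
      (Algebra.TensorProduct.cancelBaseChange k' (k' ⊗[k] K) (k' ⊗[k] K) p.ResidueField A).symm.toRingEquiv
  have h3 : IsRegularRing (A ⊗[k'] (k' ⊗[k] K)) :=
    .of_ringEquiv (Algebra.TensorProduct.comm k' (k' ⊗[k] K) A).toRingEquiv
  have h4 : IsRegularRing (A ⊗[k] K) :=
    .of_ringEquiv (Algebra.TensorProduct.cancelBaseChange k k' k' A K).toRingEquiv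
  exact .of_ringEquiv (Algebra.TensorProduct.comm k A K).toRingEquiv

end K73.GeomReg
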