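import Mathlib.RingTheory.Spectrum.Maximal.Localization
import Mathlib.RingTheory.LocalRing.MaximalIdeal.Basic
import Mathlib.RingTheory.Localization.AtPrime.Basic

/-!
# Rings isomorphic to a finite product of local rings

For `e : S ≃+* ∏ i, A i` with finitely many local rings `A i`: the maximal ideals of `S` are the `maxIdeal e i`, `A i`
is the localization of `S` at `maxIdeal e i`, and `S` maps bijectively to the product of its localizations at
maximal ideals.
-/

set_option autoImplicit false

namespace K73.PiLocal

universe u

variable {S : Type u} [CommRing S] {ι : Type*} [Finite ι] {A : ι → Type u} [∀ i, CommRing (A i)]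
  [∀ i, IsLocalRing (A i)] (e : S ≃+* ∀ i, A i)

/-- the projection to the `i`-th factor -/
def proj (i : ι) : S →+* A i := (Pi.evalRingHom A i).comp e.toRingHom

omit [Finite ι] [∀ i, IsLocalRing (A i)] in
theorem proj_apply (i : ι) (s : S) : proj e i s = e s i := rfl

omit [Finite ι] [∀ i, IsLocalRing (A i)] in
theorem proj_surjective (i : ι) : Function.Surjective (proj e i) := by
  classical
  intro z
  refine ⟨e.symm (Pi.single i z), ?_⟩
  rw [proj_apply, RingEquiv.apply_symm_apply, Pi.single_eq_same]

/-- the maximal ideal of `S` attached to the `i`-th factor -/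
def maxIdeal (i : ι) : Ideal S := (IsLocalRing.maximalIdeal (A i)).comap (proj e i)

instance (i : ι) : (maxIdeal e i).IsMaximal :=
  Ideal.comap_isMaximal_of_surjective _ (proj_surjective e i)

theorem eq_maxIdeal (m : Ideal S) [hm : m.IsMaximal] : ∃ i, m = maxIdeal e i := by
  classical
  have := Fintype.ofFinite ι
  by_contra hcon
  push Not at hcon
  -- for every `i` there is an element of `m` not in `maxIdeal e i`
  have h1 : ∀ i, ∃ x ∈ m, x ∉ maxIdeal e i := by
    intro i
    by_contra h
    push Not at h
    exact hcon i (hm.eq_of_le (Ideal.IsMaximal.ne_top inferInstance) h)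
  choose x hx hx' using h1
  -- hence a unit of each factor
  have h2 : ∀ i, ∃ y : A i, proj e i (x i) * y = 1 := by
    intro i
    have : IsUnit (proj e i (x i)) := by
      by_contra hu
      exact hx' i (by rw [maxIdeal, Ideal.mem_comap]; exact hu)
    exact this.exists_right_inv
  choose y hy using h2
  apply hm.ne_top
  rw [Ideal.eq_top_iff_one]
  have h3 : (1 : S) = ∑ i, x i * e.symm (Pi.single i (y i)) := by
    apply e.injective
    rw [map_one, map_sum]
    funext j
    rw [Finset.sum_apply, Finset.sum_eq_single j]
    · rw [map_mul, RingEquiv.apply_symm_apply, Pi.mul_apply, Pi.single_eq_same]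
      exact (hy j).symm
    · intro i _ hij
      rw [map_mul, RingEquiv.apply_symm_apply, Pi.mul_apply, Pi.single_eq_of_ne (Ne.symm hij), mul_zero]
    · intro h
      exact absurd (Finset.mem_univ j) h
  rw [h3]
  exact Submodule.sum_mem _ fun i _ => Ideal.mul_mem_right _ _ (hx i)

include e in
theorem finite_maximalSpectrum : Finite (MaximalSpectrum S) := by
  refine Finite.of_surjective (fun i : ι => (⟨maxIdeal e i, inferInstance⟩ : MaximalSpectrum S)) fun m => ?_
  have := m.isMaximal
  obtain ⟨i, hi⟩ := eq_maxIdeal e m.asIdeal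
  exact ⟨i, MaximalSpectrum.ext hi.symm⟩

omit [Finite ι] in
theorem maxIdeal_injective : Function.Injective (maxIdeal e) := by
  classical
  intro i j hij
  by_contra hne
  have h1 : e.symm (Pi.single i 1) ∈ maxIdeal e j := by
    rw [maxIdeal, Ideal.mem_comap, proj_apply, RingEquiv.apply_symm_apply, Pi.single_eq_of_ne (Ne.symm hne)]
    exact zero_mem _
  rw [← hij, maxIdeal, Ideal.mem_comap, proj_apply, RingEquiv.apply_symm_apply, Pi.single_eq_same] at h1
  exact (Ideal.ne_top_iff_one _).1 (Ideal.IsPrime.ne_top inferInstance) h1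

/-- `A i` is the localization of `S` at `maxIdeal e i`. -/
theorem isLocalization (i : ι) :
    @IsLocalization.AtPrime S _ (A i) _ (proj e i).toAlgebra (maxIdeal e i) _ := by
  classical
  let _ := (proj e i).toAlgebra
  refine ⟨?_, ?_, ?_⟩
  · rintro ⟨s, hs⟩
    by_contra hu
    exact hs (by
      change s ∈ maxIdeal e i
      rw [maxIdeal, Ideal.mem_comap]
      exact hu)
  · intro z
    obtain ⟨s, hs⟩ := proj_surjective e i z
    refine ⟨(s, 1), ?_⟩
    change z * proj e i 1 = proj e i s
    rw [map_one, mul_one, hs]
  · intro x y hxy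
    refine ⟨⟨e.symm (Pi.single i 1), ?_⟩, ?_⟩
    · change ¬ _ ∈ maxIdeal e i
      rw [maxIdeal, Ideal.mem_comap, proj_apply, RingEquiv.apply_symm_apply, Pi.single_eq_same]
      exact (Ideal.ne_top_iff_one _).1 (Ideal.IsPrime.ne_top inferInstance)
    · apply e.injective
      change e (e.symm (Pi.single i 1) * x) = e (e.symm (Pi.single i 1) * y)
      rw [map_mul, map_mul, RingEquiv.apply_symm_apply]
      funext j
      rw [Pi.mul_apply, Pi.mul_apply]
      by_cases hj : j = i
      · subst hj
        rw [Pi.single_eq_same, one_mul, one_mul]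
        exact hxy
      · rw [Pi.single_eq_of_ne hj, zero_mul, zero_mul]

/-- `A i ≃ S_{m_i}` compatibly with the maps from `S`. -/
theorem exists_equiv (i : ι) :
    ∃ f : A i ≃+* Localization.AtPrime (maxIdeal e i), ∀ s, f (proj e i s) = algebraMap S _ s := by
  let _ := (proj e i).toAlgebra
  have := isLocalization e i
  exact ⟨(IsLocalization.algEquiv (maxIdeal e i).primeCompl (A i)
    (Localization.AtPrime (maxIdeal e i))).toRingEquiv, fun s =>
    (IsLocalization.algEquiv (maxIdeal e i).primeCompl (A i)
      (Localization.AtPrime (maxIdeal e i))).commutes s⟩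

include e in
theorem bijective : Function.Bijective
    (algebraMap S ((m : MaximalSpectrum S) → Localization.AtPrime m.asIdeal)) := by
  classical
  refine ⟨MaximalSpectrum.toPiLocalization_injective S, fun z => ?_⟩
  choose f hf using exists_equiv e
  let a : ∀ i, A i := fun i => (f i).symm (z ⟨maxIdeal e i, inferInstance⟩)
  refine ⟨e.symm a, funext fun m => ?_⟩
  obtain ⟨m, hm⟩ := m
  obtain ⟨i, rfl⟩ := eq_maxIdeal e m
  change algebraMap S (Localization.AtPrime (maxIdeal e i)) (e.symm a) = _
  rw [← hf, proj_apply, RingEquiv.apply_symm_apply]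
  exact (f i).apply_symm_apply _

end K73.PiLocal
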