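import Mathlib.RingTheory.IntegralClosure.IntegrallyClosed
import Mathlib.RingTheory.Derivation.Basic
import Mathlib.FieldTheory.IntermediateField.Adjoin.Algebra
import Mathlib.FieldTheory.IntermediateField.Adjoin.Basic
import Mathlib.Algebra.CharP.Lemmas
import Mathlib.Algebra.CharP.Algebra
import Mathlib.Algebra.CharP.Frobenius
import Mathlib.RingTheory.Noetherian.Basic

/-!
# Finiteness of the integral closure in a purely inseparable extension of degree `p` given by a derivation
-/

set_option autoImplicit false

namespace K73.RadExt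

open Finset

variable {R K L : Type*} [CommRing R] [IsDomain R] [IsIntegrallyClosed R] [Field K] [Algebra R K]
  [IsFractionRing R K] {p : ℕ} [Fact p.Prime] [CharP K p] (D : Derivation ℤ K K)
  (hD : ∀ r : R, ∃ s : R, D (algebraMap R K r) = algebraMap R K s)
  [Field L] [Algebra K L] [Algebra R L] [IsScalarTower R K L]

omit [Fact p.Prime] in
theorem D_pow_char (c : K) : D (c ^ p) = 0 := by
  rw [Derivation.leibniz_pow, ← Nat.cast_smul_eq_nsmul K, CharP.cast_eq_zero, zero_smul]

omit [IsDomain R] in
theorem exists_of_isIntegral_algebraMap (c : K) (h : IsIntegral R (algebraMap K L c)) :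
    ∃ r : R, algebraMap R K r = c :=
  IsIntegrallyClosed.isIntegral_iff.1
    ((isIntegral_algebraMap_iff (algebraMap K L).injective).1 h)

theorem exists_inv_natCast (n : ℕ) (h0 : 0 < n) (hn : n < p) : ∃ u : ℤ, (u : K) * (n : K) = 1 := by
  have hcop : Nat.Coprime n p :=
    ((Nat.Prime.coprime_iff_not_dvd Fact.out).2 (Nat.not_dvd_of_pos_of_lt h0 hn)).symm
  have h1 := Nat.gcd_eq_gcd_ab n p
  rw [hcop.gcd_eq_one] at h1
  refine ⟨Nat.gcdA n p, ?_⟩
  have h2 := congrArg (Int.cast : ℤ → K) h1
  push_cast at h2
  rw [CharP.cast_eq_zero K p, zero_mul, add_zero] at h2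
  rw [mul_comm]
  exact h2.symm

include hD in
omit [IsDomain R] in
theorem key (b δ : R) (hδ : D (algebraMap R K b) = algebraMap R K δ) (y : L) (hy : y ^ p = algebraMap R L b) :
    ∀ i < p, ∀ c : ℕ → K, IsIntegral R (∑ j ∈ range (i + 1), algebraMap K L (c j) * y ^ j) →
      ∀ j ≤ i, ∃ r : R, algebraMap R K r = algebraMap R K δ ^ i * c j := by
  have : CharP L p := charP_of_injective_algebraMap (algebraMap K L).injective p
  have hp : p.Prime := Fact.out
  have hyint : IsIntegral R y := IsIntegral.of_pow hp.pos (by rw [hy]; exact isIntegral_algebraMap)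
  have hpow : ∀ (n : ℕ) (c : ℕ → K), (∑ j ∈ range n, algebraMap K L (c j) * y ^ j) ^ p =
      algebraMap K L (∑ j ∈ range n, c j ^ p * algebraMap R K b ^ j) := by
    intro n c
    rw [sum_pow_char p, map_sum]
    refine sum_congr rfl fun j _ => ?_
    rw [mul_pow, ← pow_mul, mul_comm j p, pow_mul, hy, map_mul, map_pow, map_pow,
      ← IsScalarTower.algebraMap_apply]
  intro i
  induction i with
  | zero =>
    intro _ c hz j hj
    obtain rfl : j = 0 := Nat.le_zero.1 hj
    rw [zero_add, sum_range_one, pow_zero, mul_one] at hz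
    obtain ⟨r, hr⟩ := exists_of_isIntegral_algebraMap (c 0) hz
    exact ⟨r, by rw [hr, pow_zero, one_mul]⟩
  | succ i ih =>
    intro hi c hz
    -- the `p`-th power of `z` lies in `R`
    have hC := hz.pow p
    rw [hpow] at hC
    obtain ⟨r₀, hr₀⟩ := exists_of_isIntegral_algebraMap _ hC
    obtain ⟨s, hs⟩ := hD r₀
    rw [hr₀, map_sum] at hs
    have hDj : ∀ j, D (c j ^ p * algebraMap R K b ^ j) =
        c j ^ p * ((j : K) * algebraMap R K b ^ (j - 1) * algebraMap R K δ) := by
      intro j
      rw [Derivation.leibniz, D_pow_char (p := p), smul_zero, add_zero, Derivation.leibniz_pow, hδ,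
        ← Nat.cast_smul_eq_nsmul K]
      simp only [smul_eq_mul]
      ring
    have hs' : ∑ l ∈ range (i + 1), c (l + 1) ^ p *
        (((l + 1 : ℕ) : K) * algebraMap R K b ^ l * algebraMap R K δ) = algebraMap R K s := by
      rw [← hs]
      conv_rhs => rw [sum_range_succ', hDj 0, Nat.cast_zero, zero_mul, zero_mul, mul_zero, add_zero]
      refine sum_congr rfl fun l _ => ?_
      rw [hDj, Nat.add_sub_cancel]
    -- the element `w`
    let c' : ℕ → K := fun l => algebraMap R K δ * ((l + 1 : ℕ) : K) * c (l + 1)
    have hw : IsIntegral R (∑ l ∈ range (i + 1), algebraMap K L (c' l) * y ^ l) := by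
      refine IsIntegral.of_pow hp.pos ?_
      rw [hpow]
      have h1 : ∑ l ∈ range (i + 1), c' l ^ p * algebraMap R K b ^ l =
          algebraMap R K (δ ^ (p - 1) * s) := by
        rw [map_mul, ← hs', mul_sum]
        refine sum_congr rfl fun l _ => ?_
        have h2 : ((l + 1 : ℕ) : K) ^ p = ((l + 1 : ℕ) : K) := by
          have := map_natCast (frobenius K p) (l + 1)
          rwa [frobenius_def] at this
        have h3 : algebraMap R K δ ^ p = algebraMap R K δ ^ (p - 1) * algebraMap R K δ := by
          rw [← pow_succ, Nat.sub_add_cancel hp.pos]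
        simp only [c']
        rw [mul_pow, mul_pow, h2, h3, map_pow]
        ring
      rw [h1, ← IsScalarTower.algebraMap_apply]
      exact isIntegral_algebraMap
    have hih := ih (Nat.lt_of_succ_lt hi) c' hw
    have hpos : ∀ l ≤ i, ∃ r : R, algebraMap R K r = algebraMap R K δ ^ (i + 1) * c (l + 1) := by
      intro l hl
      obtain ⟨r, hr⟩ := hih l hl
      obtain ⟨u, hu⟩ := exists_inv_natCast (K := K) (p := p) (l + 1) (Nat.succ_pos l) (by omega)
      refine ⟨(u : R) * r, ?_⟩
      rw [map_mul, map_intCast, hr]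
      simp only [c']
      calc (u : K) * (algebraMap R K δ ^ i * (algebraMap R K δ * ((l + 1 : ℕ) : K) * c (l + 1)))
          = ((u : K) * ((l + 1 : ℕ) : K)) * (algebraMap R K δ ^ (i + 1) * c (l + 1)) := by ring
        _ = _ := by rw [hu, one_mul]
    intro j hj
    rcases Nat.eq_zero_or_pos j with rfl | hj0
    · apply exists_of_isIntegral_algebraMap (L := L)
      have h1 : algebraMap K L (algebraMap R K δ ^ (i + 1) * c 0) =
          algebraMap R L (δ ^ (i + 1)) * (∑ j ∈ range (i + 1 + 1), algebraMap K L (c j) * y ^ j) -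
          ∑ l ∈ range (i + 1), algebraMap K L (algebraMap R K δ ^ (i + 1) * c (l + 1)) * y ^ (l + 1) := by
        rw [sum_range_succ', mul_add, mul_sum, pow_zero, mul_one, IsScalarTower.algebraMap_apply R K L,
          map_pow, ← map_mul, add_sub_right_comm, ← sum_sub_distrib, sum_eq_zero, zero_add]
        intro l _
        rw [map_mul]
        ring
      rw [h1]
      refine (isIntegral_algebraMap.mul hz).sub (IsIntegral.sum _ fun l hl => ?_)
      obtain ⟨r, hr⟩ := hpos l (Nat.lt_succ_iff.1 (mem_range.1 hl))
      rw [← hr, ← IsScalarTower.algebraMap_apply]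
      exact isIntegral_algebraMap.mul (hyint.pow _)
    · obtain ⟨l, rfl⟩ := Nat.exists_eq_succ_of_ne_zero hj0.ne'
      exact hpos l (by omega)

/-- The integral closure in `L = K(a^{1/p})` is finite when some derivation preserving `R` does not kill `a`. -/
theorem finite [IsNoetherianRing R] (a : K) (ha : D a ≠ 0) (x : L) (hx : x ^ p = algebraMap K L a)
    (hD : ∀ r : R, ∃ s : R, D (algebraMap R K r) = algebraMap R K s)
    (hgen : IntermediateField.adjoin K {x} = ⊤) : Module.Finite R (integralClosure R L) := by
  have hp : p.Prime := Fact.out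
  obtain ⟨n, d, hd, hnd⟩ := IsFractionRing.div_surjective (A := R) a
  have hd0 : algebraMap R K d ≠ 0 := IsFractionRing.to_map_ne_zero_of_mem_nonZeroDivisors hd
  -- `b = d ^ p * a`
  let b : R := d ^ (p - 1) * n
  have hb : algebraMap R K b = algebraMap R K d ^ p * a := by
    rw [← hnd, map_mul, map_pow]
    have h3 : algebraMap R K d ^ p = algebraMap R K d ^ (p - 1) * algebraMap R K d := by
      rw [← pow_succ, Nat.sub_add_cancel hp.pos]
    rw [h3]
    field_simp
  obtain ⟨δ, hδ⟩ := hD b
  have hδ0 : algebraMap R K δ ≠ 0 := by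
    rw [← hδ, hb, Derivation.leibniz, D_pow_char (p := p), smul_zero, add_zero, smul_eq_mul]
    exact mul_ne_zero (pow_ne_zero _ hd0) ha
  let y : L := algebraMap R L d * x
  have hy : y ^ p = algebraMap R L b := by
    rw [mul_pow, hx, IsScalarTower.algebraMap_apply R K L, IsScalarTower.algebraMap_apply R K L, ← map_pow,
      ← map_mul, ← hb]
  have hdL : algebraMap R L d ≠ 0 := by
    rw [IsScalarTower.algebraMap_apply R K L]
    exact (map_ne_zero _).2 hd0
  -- every element is a polynomial of degree `< p` in `y`
  have hrep : ∀ z : L, ∃ c : ℕ → K, z = ∑ j ∈ range (p - 1 + 1), algebraMap K L (c j) * y ^ j := by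
    intro z
    have hxint : IsIntegral K x := IsIntegral.of_pow hp.pos (by rw [hx]; exact isIntegral_algebraMap)
    have hz : z ∈ Algebra.adjoin K {x} := by
      have h1 : (IntermediateField.adjoin K {x}).toSubalgebra = Algebra.adjoin K {x} :=
        IntermediateField.adjoin_simple_toSubalgebra_of_isAlgebraic hxint.isAlgebraic
      rw [← h1, hgen]
      trivial
    rw [Algebra.adjoin_singleton_eq_range_aeval] at hz
    obtain ⟨q, rfl⟩ := hz
    let P : Polynomial K := Polynomial.X ^ p - Polynomial.C a
    have hP : P.Monic := Polynomial.monic_X_pow_sub_C a hp.ne_zero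
    have hPx : Polynomial.aeval x P = 0 := by
      rw [map_sub, map_pow, Polynomial.aeval_X, Polynomial.aeval_C, hx, sub_self]
    have h2 : Polynomial.aeval x q = Polynomial.aeval x (q %ₘ P) := by
      conv_lhs => rw [← Polynomial.modByMonic_add_div q P]
      rw [map_add, map_mul, hPx, zero_mul, add_zero]
    have hdeg : (q %ₘ P).natDegree < p - 1 + 1 := by
      rw [Nat.sub_add_cancel hp.pos]
      have := Polynomial.natDegree_modByMonic_lt q hP (by
        intro h
        have h3 := congrArg Polynomial.natDegree h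
        rw [Polynomial.natDegree_X_pow_sub_C, Polynomial.natDegree_one] at h3
        exact hp.ne_zero h3)
      rwa [Polynomial.natDegree_X_pow_sub_C] at this
    refine ⟨fun j => (q %ₘ P).coeff j * (algebraMap R K d)⁻¹ ^ j, ?_⟩
    change Polynomial.aeval x q = _
    rw [h2, Polynomial.aeval_eq_sum_range' hdeg]
    refine sum_congr rfl fun j _ => ?_
    rw [Algebra.smul_def, mul_pow, map_mul, IsScalarTower.algebraMap_apply R K L d, map_pow, map_inv₀]
    have h4 : algebraMap K L (algebraMap R K d) ≠ 0 := (map_ne_zero _).2 hd0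
    rw [inv_pow]
    field_simp
  -- the finite module containing the integral closure
  let N : Submodule R L := Submodule.span R
    (Set.range fun j : Fin p => algebraMap K L ((algebraMap R K δ)⁻¹ ^ (p - 1)) * y ^ (j : ℕ))
  have hN : Module.Finite R N := Module.Finite.span_of_finite R (Set.finite_range _)
  have hle : (integralClosure R L).toSubmodule ≤ N := by
    intro z hz
    obtain ⟨c, hc⟩ := hrep z
    have hzint : IsIntegral R z := hz
    rw [hc] at hzint
    have hk := key D hD b δ hδ y hy (p - 1) (Nat.sub_lt hp.pos Nat.one_pos) c hzint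
    rw [hc]
    refine Submodule.sum_mem _ fun j hj => ?_
    obtain ⟨r, hr⟩ := hk j (Nat.lt_succ_iff.1 (mem_range.1 hj))
    have h1 : algebraMap K L (c j) * y ^ j =
        r • (algebraMap K L ((algebraMap R K δ)⁻¹ ^ (p - 1)) * y ^ j) := by
      rw [Algebra.smul_def, IsScalarTower.algebraMap_apply R K L, hr, ← mul_assoc, ← map_mul]
      congr 2
      rw [inv_pow]
      field_simp
    rw [h1]
    refine N.smul_mem _ (Submodule.subset_span ⟨⟨j, ?_⟩, rfl⟩)
    have := mem_range.1 hj
    rwa [Nat.sub_add_cancel hp.pos] at this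
  exact Module.Finite.of_injective (Submodule.inclusion hle) (Submodule.inclusion_injective hle)

end K73.RadExt
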